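import Cfsg.Agent.Gheri.SubnormalCount

/-!
# The subnormalizer count along a normal chain
-/

set_option linter.unusedSectionVars false

namespace Cfsg.Agent.Gheri

open Subgroup

universe u

variable {p : ℕ} [Fact p.Prime]

/-- The number of elements of `U` centralising `H` modulo `L`, over the order of `L`. -/
noncomputable def centCount {G : Type u} [Group G] (H L U : Subgroup G) : ℕ :=
  Nat.card {u : G // u ∈ U ∧ ∀ h ∈ H, h * u * h⁻¹ * u⁻¹ ∈ L} / Nat.card L

theorem centCount_bot {G : Type u} [Group G] [Finite G] (H U : Subgroup G) :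
    centCount H ⊥ U = Nat.card ↥(U ⊓ centralizer (H : Set G)) := by
  rw [centCount, Subgroup.card_bot, Nat.div_one]
  refine Nat.card_congr (Equiv.subtypeEquivRight fun u => ?_)
  rw [Subgroup.mem_inf, mem_centralizer_iff]
  refine and_congr Iff.rfl (forall₂_congr fun h _ => ?_)
  rw [Subgroup.mem_bot, mul_inv_eq_one, mul_inv_eq_iff_eq_mul]

/-- Preimages of a predicate on a quotient. -/
theorem card_preimage {G : Type u} [Group G] [Finite G] (N : Subgroup G) [N.Normal]
    (Q : G ⧸ N → Prop) :
    Nat.card {g : G // Q (g : G ⧸ N)} = Nat.card {x : G ⧸ N // Q x} * Nat.card N := by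
  rw [← Nat.card_prod]
  exact Nat.card_congr (Equiv.symm
    { toFun := fun x => ⟨Quotient.out x.1.1 * x.2.1, by
        rw [QuotientGroup.mk_mul, QuotientGroup.out_eq', (QuotientGroup.eq_one_iff _).2 x.2.2,
          mul_one]
        exact x.1.2⟩
      invFun := fun g => (⟨(g.1 : G ⧸ N), g.2⟩,
        ⟨(Quotient.out (g.1 : G ⧸ N))⁻¹ * g.1, QuotientGroup.eq.1 (QuotientGroup.out_eq' _)⟩)
      left_inv := fun x => by
        have h : ((Quotient.out x.1.1 * x.2.1 : G) : G ⧸ N) = x.1.1 := by
          rw [QuotientGroup.mk_mul, QuotientGroup.out_eq', (QuotientGroup.eq_one_iff _).2 x.2.2,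
            mul_one]
        refine Prod.ext (Subtype.ext h) (Subtype.ext ?_)
        show (Quotient.out ((Quotient.out x.1.1 * x.2.1 : G) : G ⧸ N))⁻¹ * _ = _
        rw [h, inv_mul_cancel_left]
      right_inv := fun g => Subtype.ext (mul_inv_cancel_left _ _) })

theorem mem_map_mk_iff {G : Type u} [Group G] {N L : Subgroup G} [N.Normal] (hNL : N ≤ L) (x : G) :
    (x : G ⧸ N) ∈ L.map (QuotientGroup.mk' N) ↔ x ∈ L :=
  ⟨fun ⟨y, hy, hxy⟩ => by
    have h := mul_mem hy (hNL (QuotientGroup.eq.1 hxy))
    rwa [mul_inv_cancel_left] at h,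
    fun h => mem_map_of_mem _ h⟩

theorem card_map_mk {G : Type u} [Group G] [Finite G] {N L : Subgroup G} [N.Normal] (hNL : N ≤ L) :
    Nat.card (L.map (QuotientGroup.mk' N)) * Nat.card N = Nat.card L := by
  refine (card_preimage N (fun x => x ∈ L.map (QuotientGroup.mk' N))).symm.trans ?_
  exact Nat.card_congr (Equiv.subtypeEquivRight fun x => mem_map_mk_iff hNL x)

theorem centCount_map {G : Type u} [Group G] [Finite G] (N : Subgroup G) [N.Normal]
    (H L U : Subgroup G) (hNL : N ≤ L) (hLU : L ≤ U) :
    centCount (H.map (QuotientGroup.mk' N)) (L.map (QuotientGroup.mk' N))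
      (U.map (QuotientGroup.mk' N)) = centCount H L U := by
  unfold centCount
  have h2 := card_preimage N (fun x => x ∈ U.map (QuotientGroup.mk' N) ∧
    ∀ h ∈ H.map (QuotientGroup.mk' N), h * x * h⁻¹ * x⁻¹ ∈ L.map (QuotientGroup.mk' N))
  rw [← card_map_mk hNL, ← Nat.mul_div_mul_right _ _ (Nat.card_pos (α := N)), ← h2]
  congr 1
  refine Nat.card_congr (Equiv.subtypeEquivRight fun x => ?_)
  rw [mem_map_mk_iff (hNL.trans hLU)]
  refine and_congr Iff.rfl ⟨fun h a ha => ?_, fun h y hy => ?_⟩
  · have := h _ (mem_map_of_mem _ ha)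
    exact (mem_map_mk_iff hNL _).1 this
  · obtain ⟨a, ha, rfl⟩ := hy
    exact (mem_map_mk_iff hNL (a * x * a⁻¹ * x⁻¹)).2 (h a ha)

/-- **The subnormalizer count.** -/
theorem card_good : ∀ (n : ℕ) (G : Type u) [Group G] [Finite G] (H : Subgroup G),
    IsPGroup p H → ∀ (M : Fin (n + 1) → Subgroup G), M 0 = ⊥ → M (Fin.last n) = ⊤ → Monotone M →
    (∀ i, (M i).Normal) →
    (∀ i : Fin n, (∃ m : ℕ, (M i.castSucc).relIndex (M i.succ) = p ^ m) ∨
      ((M i.castSucc).relIndex (M i.succ)).Coprime p) →
    Nat.card {g : G // Good p H g} =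
      p ^ (Nat.card G).factorization p *
        ∏ i : Fin n, (if ((M i.castSucc).relIndex (M i.succ)).Coprime p then
          centCount H (M i.castSucc) (M i.succ) else 1) := by
  intro n
  induction n with
  | zero =>
    intro G _ _ H hH M h0 hlast _ _ _
    have : Subsingleton G := Subgroup.subsingleton_iff.1
      (subsingleton_of_bot_eq_top (h0.symm.trans hlast))
    have h1 : ∀ g : G, Good p H g := fun g => ⟨H, hH, le_rfl, by
      rw [Subsingleton.elim g 1]; exact one_mem _⟩
    simp [h1]
  | succ n ih =>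
    intro G _ _ H hH M h0 hlast hmono hn hfac
    set N := M 1
    have hNn : N.Normal := hn 1
    have hNM : ∀ i : Fin (n + 1), N ≤ M i.succ := fun i => hmono (by
      rw [← Fin.succ_zero_eq_one]
      exact Fin.succ_le_succ_iff.2 (Fin.zero_le i))
    set f := QuotientGroup.mk' N with hf
    set M' : Fin (n + 1) → Subgroup (G ⧸ N) := fun i => (M i.succ).map f with hM'
    have hrel : ∀ i : Fin n, (M' i.castSucc).relIndex (M' i.succ) =
        (M i.succ.castSucc).relIndex (M i.succ.succ) := fun i => by
      rw [hM', Subgroup.relIndex_map_map, hf, QuotientGroup.ker_mk',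
        sup_eq_left.2 (hNM _), sup_eq_left.2 (hNM _), Fin.succ_castSucc]
    have key := ih (G ⧸ N) (H.map f) (hH.map f) M'
      (by rw [hM']; simp only [Fin.succ_zero_eq_one]; exact QuotientGroup.map_mk'_self N)
      (by
        rw [hM']
        simp only [Fin.succ_last, hlast]
        exact Subgroup.map_top_of_surjective _ (QuotientGroup.mk'_surjective N))
      (fun a b h => map_mono (hmono (Fin.succ_le_succ_iff.2 h)))
      (fun i => (hn _).map f (QuotientGroup.mk'_surjective N))
      (fun i => by rw [hrel]; exact hfac i.succ)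
    have hrest : ∀ i : Fin n, (if ((M' i.castSucc).relIndex (M' i.succ)).Coprime p then
          centCount (H.map f) (M' i.castSucc) (M' i.succ) else 1) =
        if ((M i.succ.castSucc).relIndex (M i.succ.succ)).Coprime p then
          centCount H (M i.succ.castSucc) (M i.succ.succ) else 1 := fun i => by
      rw [hrel, ← Fin.succ_castSucc]
      split
      · exact centCount_map N H _ _ (hNM _)
          (hmono (Fin.succ_le_succ_iff.2 (Fin.castSucc_le_succ i)))
      · rfl
    rw [Finset.prod_congr rfl fun i _ => hrest i] at key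
    rw [Fin.prod_univ_succ]
    have hG : Nat.card G = Nat.card (G ⧸ N) * Nat.card N :=
      N.card_eq_card_quotient_mul_card_subgroup
    have h00 : (M (0 : Fin (n + 1)).castSucc).relIndex (M (0 : Fin (n + 1)).succ) = Nat.card N := by
      rw [Fin.castSucc_zero, h0, Fin.succ_zero_eq_one, Subgroup.relIndex_bot_left]
    rw [h00]
    have hp : p.Prime := Fact.out
    by_cases hc : (Nat.card N).Coprime p
    · rw [if_pos hc, card_good_mul N hH hc, key, Fin.castSucc_zero, h0, Fin.succ_zero_eq_one,
        centCount_bot, hG, Nat.factorization_mul Nat.card_pos.ne' Nat.card_pos.ne',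
        Finsupp.add_apply, Nat.factorization_eq_zero_of_not_dvd fun hd =>
          hp.coprime_iff_not_dvd.1 hc.symm hd, add_zero]
      ring
    · rw [if_neg hc]
      obtain ⟨m, hm⟩ : ∃ m, Nat.card N = p ^ m := by
        rcases hfac 0 with h | h
        · rwa [h00] at h
        · rw [h00] at h; exact absurd h hc
      rw [card_good_pgroup N (IsPGroup.of_card hm), key, one_mul, hG,
        Nat.factorization_mul Nat.card_pos.ne' Nat.card_pos.ne', Finsupp.add_apply, pow_add, hm,
        hp.factorization_pow, Finsupp.single_eq_same]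
      ring

end Cfsg.Agent.Gheri
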