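import Mathlib
import Cfsg.Agent.WielandtFixed.Main
import Cfsg.Agent.Coprime.Elementary

/-!
# Products of fixed point numbers in coprime action: the abelian case

If a `p`-group `P` acts on an abelian group `V` of order prime to `p` then
`(∏ x, |C_V(x)|) ^ p ≤ |V| ^ |P| * |C_V(P)| ^ ((p - 1) * |P|)`.
-/

namespace Cfsg.Agent.Gheri

open Subgroup

variable {p : ℕ} [Fact p.Prime]

/-- The fixed points of an automorphism. -/
def fixSub {V : Type*} [Group V] (σ : MulAut V) : Subgroup V where
  carrier := {v | σ v = v}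
  one_mem' := map_one σ
  mul_mem' := fun {a b} (ha : σ a = a) (hb : σ b = b) => by
    show σ (a * b) = a * b
    rw [map_mul, ha, hb]
  inv_mem' := fun {a} (ha : σ a = a) => by
    show σ a⁻¹ = a⁻¹
    rw [map_inv, ha]

/-- The common fixed points of an action. -/
def fixAll {V P : Type*} [Group V] [Group P] (φ : P →* MulAut V) : Subgroup V :=
  ⨅ x : P, fixSub (φ x)

theorem mem_fixSub {V : Type*} [Group V] {σ : MulAut V} {v : V} : v ∈ fixSub σ ↔ σ v = v :=
  Iff.rfl

/-- An automorphism preserves the fixed points of one it commutes with. -/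
theorem fixSub_invariant {V : Type*} [Group V] {σ τ : MulAut V} (h : Commute σ τ) {v : V}
    (hv : v ∈ fixSub σ) : τ v ∈ fixSub σ := by
  show σ (τ v) = τ v
  rw [← MulAut.mul_apply, h.eq, MulAut.mul_apply, mem_fixSub.1 hv]

theorem pow_invariant {V : Type*} [Group V] (U : Subgroup V) {ζ : MulAut V}
    (hζ : ∀ v ∈ U, ζ v ∈ U) : ∀ n : ℕ, ∀ v ∈ U, (ζ ^ n) v ∈ U := by
  intro n
  induction n with
  | zero => intro v hv; simpa using hv
  | succ n ih =>
    intro v hv
    rw [pow_succ, MulAut.mul_apply]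
    exact ih _ (hζ v hv)

/-- An automorphism of order `p` moving `v` by a fixed element of order prime to `p` fixes `v`. -/
theorem fixed_of_div_fixed {V : Type*} [CommGroup V] [Finite V] (hcop : (Nat.card V).Coprime p)
    (ζ : MulAut V) (hζ : ζ ^ p = 1) {m : ℕ} (hm : ¬ p ∣ m) {v : V}
    (h : (ζ ^ m) v / v ∈ fixSub ζ) : v ∈ fixSub ζ := by
  set l := (ζ ^ m) v / v with hl
  have hlz : ∀ n : ℕ, (ζ ^ n) l = l := by
    intro n
    induction n with
    | zero => simp
    | succ n ih => rw [pow_succ, MulAut.mul_apply, mem_fixSub.1 h, ih]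
  have hmv : (ζ ^ m) v = l * v := by rw [hl, div_mul_cancel]
  have hit : ∀ n : ℕ, (ζ ^ (m * n)) v = l ^ n * v := by
    intro n
    induction n with
    | zero => simp
    | succ n ih =>
      rw [Nat.mul_succ, pow_add, MulAut.mul_apply, hmv, map_mul, hlz, ih, pow_succ', mul_assoc]
  have h1 : l ^ p = 1 := by
    have := hit p
    rw [mul_comm m p, pow_mul, hζ, one_pow, MulAut.one_apply] at this
    exact right_eq_mul.1 this
  have h2 : l = 1 := by
    rw [← orderOf_eq_one_iff]
    exact Nat.eq_one_of_dvd_coprimes hcop (orderOf_dvd_natCard l) (orderOf_dvd_of_pow_eq_one h1)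
  have hfix : ∀ n : ℕ, (ζ ^ (m * n)) v = v := fun n => by rw [hit, h2, one_pow, one_mul]
  obtain ⟨a, ha⟩ := Nat.exists_mul_mod_eq_one_of_coprime
    (((Fact.out : p.Prime).coprime_iff_not_dvd.2 hm).symm) (Fact.out : p.Prime).one_lt
  have h3 := hfix a
  rw [← Nat.mod_add_div (m * a) p, pow_add, pow_mul, hζ, one_pow, mul_one, ha.2, pow_one] at h3
  exact h3

theorem coset_bound {V : Type*} [CommGroup V] [Finite V] (U : Subgroup V)
    (hcop : (Nat.card V).Coprime p) (σ ζ : MulAut V)
    (hζU : ∀ v ∈ U, ζ v ∈ U) (hc : Commute σ ζ) (hζ : ζ ^ p = 1) :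
    (∏ i : Fin p, Nat.card ↥(U ⊓ fixSub (σ * ζ ^ (i : ℕ)))) * Nat.card ↥(U ⊓ fixSub ζ) ≤
      Nat.card U * Nat.card ↥(U ⊓ fixSub ζ ⊓ fixSub σ) ^ p := by
  classical
  have hcy : ∀ i : Fin p, Commute (σ * ζ ^ (i : ℕ)) ζ := fun i =>
    hc.mul_left ((Commute.refl ζ).pow_left _)
  have key : ∀ s : Finset (Fin p), ∀ w : Fin p → V,
      (∀ i ∈ s, w i ∈ U ⊓ fixSub (σ * ζ ^ (i : ℕ))) →
      ∏ i ∈ s, w i ∈ fixSub ζ → ∀ i ∈ s, w i ∈ fixSub ζ := by
    intro s
    induction s using Finset.induction with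
    | empty => intro w _ _ i hi; simp at hi
    | @insert k s hk ih =>
      intro w hw hprod
      set y := σ * ζ ^ (k : ℕ) with hy
      have hyk : y (w k) = w k := (hw k (Finset.mem_insert_self _ _)).2
      have hdiv : ∀ j ∈ s, ∃ m : ℕ, ¬ p ∣ m ∧ y (w j) = (ζ ^ m) (w j) := by
        intro j hj
        have h1 : (k : ℕ) < p := k.2
        have h2 : (j : ℕ) < p := j.2
        refine ⟨(k : ℕ) + (p - j), ?_, ?_⟩
        · intro hd
          have hkj : (k : ℕ) ≠ j := fun e => hk (Fin.ext e ▸ hj)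
          obtain ⟨c, hc'⟩ := hd
          rcases Nat.lt_or_ge c 2 with hc2 | hc2
          · interval_cases c <;> omega
          · have : p * 2 ≤ p * c := Nat.mul_le_mul_left p hc2
            omega
        · have e : y = ζ ^ ((k : ℕ) + (p - j)) * (σ * ζ ^ (j : ℕ)) := by
            rw [← ((hcy j).pow_right ((k : ℕ) + (p - j))).eq, mul_assoc, ← pow_add, hy,
              show (j : ℕ) + ((k : ℕ) + (p - j)) = (k : ℕ) + p by omega, pow_add, hζ, mul_one]
          rw [e, MulAut.mul_apply,
            mem_fixSub.1 (mem_inf.1 (hw j (Finset.mem_insert_of_mem hj))).2]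
      have hmem : ∀ j ∈ s, y (w j) / w j ∈ U ⊓ fixSub (σ * ζ ^ (j : ℕ)) := by
        intro j hj
        obtain ⟨h1, h1'⟩ := mem_inf.1 (hw j (Finset.mem_insert_of_mem hj))
        obtain ⟨m, -, hm⟩ := hdiv j hj
        rw [hm]
        exact div_mem (mem_inf.2 ⟨pow_invariant U hζU m _ h1,
          fixSub_invariant ((hcy j).pow_right m) h1'⟩) (mem_inf.2 ⟨h1, h1'⟩)
      rw [Finset.prod_insert hk] at hprod
      have hprod' : ∏ j ∈ s, y (w j) / w j ∈ fixSub ζ := by
        rw [Finset.prod_div_distrib, ← map_prod]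
        have e : y (∏ j ∈ s, w j) / ∏ j ∈ s, w j =
            y (w k * ∏ j ∈ s, w j) / (w k * ∏ j ∈ s, w j) := by
          rw [map_mul, hyk, mul_div_mul_left_eq_div]
        rw [e]
        exact div_mem (fixSub_invariant (hcy k).symm hprod) hprod
      have hs : ∀ j ∈ s, w j ∈ fixSub ζ := by
        intro j hj
        obtain ⟨m, hm1, hm⟩ := hdiv j hj
        have h1 := ih (fun j => y (w j) / w j) hmem hprod' j hj
        simp only [hm] at h1
        exact fixed_of_div_fixed hcop ζ hζ hm1 h1
      intro i hi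
      rcases Finset.mem_insert.1 hi with rfl | hi
      · exact (mul_mem_cancel_right (Subgroup.prod_mem _ hs)).1 hprod
      · exact hs i hi
  set W : Fin p → Subgroup V := fun i => U ⊓ fixSub (σ * ζ ^ (i : ℕ)) with hW
  set L : Subgroup V := U ⊓ fixSub ζ with hL
  let f : (∀ i, W i) →* U ⧸ L.subgroupOf U :=
    { toFun := fun w => ((⟨∏ i, (w i : V), U.prod_mem fun i _ => (w i).2.1⟩ : U) :
        U ⧸ L.subgroupOf U)
      map_one' := by
        rw [QuotientGroup.eq_one_iff]
        simp [mem_subgroupOf]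
      map_mul' := fun a b => by
        rw [← QuotientGroup.mk_mul]
        congr 1
        apply Subtype.ext
        simp [Finset.prod_mul_distrib] }
  let g : f.ker → (Fin p → ↥(L ⊓ fixSub σ)) := fun w i => ⟨(w.1 i : V), by
    have hw : ∏ i, (w.1 i : V) ∈ fixSub ζ := by
      have h := w.2
      rw [MonoidHom.mem_ker] at h
      have h' := (QuotientGroup.eq_one_iff _).1 h
      exact (mem_inf.1 (mem_subgroupOf.1 h')).2
    have hi : (w.1 i : V) ∈ fixSub ζ :=
      key Finset.univ (fun i => (w.1 i : V)) (fun i _ => (w.1 i).2) hw i (Finset.mem_univ _)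
    refine mem_inf.2 ⟨mem_inf.2 ⟨(mem_inf.1 (w.1 i).2).1, hi⟩, ?_⟩
    have h1 : (ζ ^ (i : ℕ)) (w.1 i : V) = w.1 i := by
      induction (i : ℕ) with
      | zero => simp
      | succ n ih => rw [pow_succ, MulAut.mul_apply, mem_fixSub.1 hi, ih]
    have h2 := mem_fixSub.1 (mem_inf.1 (w.1 i).2).2
    rw [MulAut.mul_apply, h1] at h2
    exact h2⟩
  have hg : Function.Injective g := fun a b e => Subtype.ext (funext fun i => Subtype.ext
    (congrArg (fun z => ((z i : ↥(L ⊓ fixSub σ)) : V)) e))
  have h1 : Nat.card f.ker ≤ Nat.card ↥(L ⊓ fixSub σ) ^ p := by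
    refine (Nat.card_le_card_of_injective g hg).trans (le_of_eq ?_)
    rw [Nat.card_fun, Nat.card_fin]
  have h2 : Nat.card f.range * Nat.card L ≤ Nat.card U := by
    have hle : Nat.card f.range ≤ Nat.card (U ⧸ L.subgroupOf U) := Subgroup.card_le_card_group _
    calc Nat.card f.range * Nat.card L
        ≤ Nat.card (U ⧸ L.subgroupOf U) * Nat.card L := Nat.mul_le_mul_right _ hle
      _ = Nat.card U := by
        rw [Subgroup.card_eq_card_quotient_mul_card_subgroup (L.subgroupOf U),
          Nat.card_congr (subgroupOfEquivOfLe (inf_le_left : L ≤ U)).toEquiv]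
  have h3 := f.ker.card_mul_index
  rw [Subgroup.index_ker] at h3
  have h4 : Nat.card (∀ i, W i) = ∏ i : Fin p, Nat.card (W i) := Nat.card_pi
  rw [← h4, ← h3]
  calc Nat.card f.ker * Nat.card f.range * Nat.card L
      ≤ Nat.card ↥(L ⊓ fixSub σ) ^ p * Nat.card U := by
        rw [mul_assoc]
        exact Nat.mul_le_mul h1 h2
    _ = _ := mul_comm _ _

/-- **The abelian case.** -/
theorem abelian_bound {V P : Type*} [CommGroup V] [Finite V] [Group P] [Fintype P]
    (hP : IsPGroup p P) (hcop : (Nat.card V).Coprime p) (φ : P →* MulAut V) :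
    ∀ (n : ℕ) (U : Subgroup V), Nat.card U = n → (∀ x, ∀ v ∈ U, φ x v ∈ U) →
      (∏ x : P, Nat.card ↥(U ⊓ fixSub (φ x))) ^ p ≤
        Nat.card U ^ Fintype.card P * Nat.card ↥(U ⊓ fixAll φ) ^ ((p - 1) * Fintype.card P) := by
  classical
  intro n
  induction n using Nat.strong_induction_on with
  | _ n ih =>
  intro U hn hU
  have hpr : p.Prime := Fact.out
  by_cases htriv : U ≤ fixAll φ
  · have h1 : ∀ x : P, U ⊓ fixSub (φ x) = U := fun x =>
      inf_eq_left.2 (htriv.trans (iInf_le _ x))
    simp only [h1, inf_eq_left.2 htriv, Finset.prod_const, Finset.card_univ]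
    rw [← pow_mul, ← pow_add]
    refine le_of_eq (congrArg _ ?_)
    obtain ⟨q, hq⟩ : ∃ q, p = q + 1 := ⟨p - 1, by have := hpr.two_le; omega⟩
    subst hq
    simp
    ring
  · -- the kernel of the action on `U`
    let K : Subgroup P :=
      { carrier := {x | ∀ v ∈ U, φ x v = v}
        one_mem' := fun v _ => by simp
        mul_mem' := fun {a b} ha hb v hv => by rw [map_mul, MulAut.mul_apply, hb v hv, ha v hv]
        inv_mem' := fun {a} ha v hv => by
          have h := congrArg (φ a⁻¹) (ha v hv)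
          rw [← MulAut.mul_apply, ← map_mul, inv_mul_cancel, map_one, MulAut.one_apply] at h
          exact h.symm }
    have hK : K.Normal := ⟨fun k hk x v hv => by
      rw [map_mul, map_mul, MulAut.mul_apply, MulAut.mul_apply, hk _ (hU x⁻¹ v hv),
        ← MulAut.mul_apply, ← map_mul, mul_inv_cancel, map_one, MulAut.one_apply]⟩
    have hK' : K ≠ ⊤ := fun h => htriv fun v hv =>
      Subgroup.mem_iInf.2 fun x => (show x ∈ K by rw [h]; trivial) v hv
    have : Nontrivial (P ⧸ K) := Finite.one_lt_card_iff_nontrivial.1 (by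
      rw [← Subgroup.index_eq_card]
      exact Subgroup.one_lt_index_of_ne_top hK')
    have : Nontrivial (Subgroup.center (P ⧸ K)) := (hP.to_quotient K).center_nontrivial
    obtain ⟨⟨zb, hzb⟩, hzo⟩ := exists_prime_orderOf_dvd_card' p (by
      obtain ⟨k, hk⟩ := IsPGroup.iff_card.1
        ((hP.to_quotient K).to_subgroup (Subgroup.center (P ⧸ K)))
      rw [hk]
      refine dvd_pow_self p fun h0 => ?_
      have := Finite.one_lt_card (α := Subgroup.center (P ⧸ K))
      rw [hk, h0, pow_zero] at this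
      exact lt_irrefl 1 this)
    rw [Subgroup.orderOf_mk] at hzo
    obtain ⟨z, rfl⟩ := QuotientGroup.mk_surjective zb
    have hzK : z ∉ K := fun h => hpr.one_lt.ne' (by
      rw [← hzo, (QuotientGroup.eq_one_iff z).2 h, orderOf_one])
    -- the restrictions to `U`
    let ψ : P →* MulAut U :=
      { toFun := fun x =>
          { toFun := fun v => ⟨φ x v, hU x v v.2⟩
            invFun := fun v => ⟨φ x⁻¹ v, hU x⁻¹ v v.2⟩
            left_inv := fun v => Subtype.ext (by
              show φ x⁻¹ (φ x v) = v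
              rw [← MulAut.mul_apply, ← map_mul, inv_mul_cancel, map_one, MulAut.one_apply])
            right_inv := fun v => Subtype.ext (by
              show φ x (φ x⁻¹ v) = v
              rw [← MulAut.mul_apply, ← map_mul, mul_inv_cancel, map_one, MulAut.one_apply])
            map_mul' := fun a b => Subtype.ext (map_mul (φ x) _ _) }
        map_one' := MulEquiv.ext fun v => Subtype.ext (by
          show φ 1 v = v
          rw [map_one, MulAut.one_apply])
        map_mul' := fun a b => MulEquiv.ext fun v => Subtype.ext (by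
          show φ (a * b) v = φ a (φ b v)
          rw [map_mul, MulAut.mul_apply]) }
    have hψK : ∀ k ∈ K, ψ k = 1 := fun k hk => MulEquiv.ext fun v => Subtype.ext (hk v v.2)
    have hcomm : ∀ x, Commute (ψ x) (ψ z) := by
      intro x
      have h1 := (QuotientGroup.eq (s := K)).1 (Subgroup.mem_center_iff.1 hzb x)
      have h2 := hψK _ h1
      rw [map_mul, map_inv, inv_mul_eq_one, map_mul, map_mul] at h2
      exact h2
    have hzp : ψ z ^ p = 1 := by
      rw [← map_pow]
      refine hψK _ ((QuotientGroup.eq_one_iff _).1 ?_)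
      rw [QuotientGroup.mk_pow, ← hzo, pow_orderOf_eq_one]
    set L : Subgroup V := U ⊓ fixSub (φ z) with hL
    have hLlt : Nat.card L < n := by
      rw [← hn]
      refine lt_of_le_of_ne (Subgroup.card_le_of_le inf_le_left) fun h => hzK fun v hv => ?_
      have hv' : v ∈ L := (Subgroup.eq_of_le_of_card_ge inf_le_left h.ge).ge hv
      exact (mem_inf.1 hv').2
    have hLinv : ∀ x, ∀ v ∈ L, φ x v ∈ L := fun x v hv => by
      obtain ⟨h1, h2⟩ := mem_inf.1 hv
      refine mem_inf.2 ⟨hU x v h1, ?_⟩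
      exact congrArg Subtype.val (fixSub_invariant (hcomm x).symm
        (v := ⟨v, h1⟩) (Subtype.ext h2))
    have hfixL : L ⊓ fixAll φ = U ⊓ fixAll φ :=
      le_antisymm (inf_le_inf_right _ inf_le_left)
        (le_inf (le_inf inf_le_left (inf_le_right.trans (iInf_le _ z))) inf_le_right)
    have key := ih _ hLlt L rfl hLinv
    rw [hfixL] at key
    -- transfer fixed points to `ψ`
    have hsub : ∀ x, Nat.card ↥(U ⊓ fixSub (φ x)) = Nat.card ↥(fixSub (ψ x)) := fun x =>
      Nat.card_congr
        { toFun := fun v => ⟨⟨v.1, v.2.1⟩, Subtype.ext v.2.2⟩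
          invFun := fun v => ⟨v.1.1, v.1.2, congrArg Subtype.val v.2⟩
          left_inv := fun v => rfl
          right_inv := fun v => rfl }
    have hsub' : ∀ x, Nat.card ↥(L ⊓ fixSub (φ x)) = Nat.card ↥(fixSub (ψ z) ⊓ fixSub (ψ x)) :=
      fun x => Nat.card_congr
        { toFun := fun v => ⟨⟨v.1, v.2.1.1⟩, Subtype.ext v.2.1.2, Subtype.ext v.2.2⟩
          invFun := fun v => ⟨v.1.1, ⟨v.1.2, congrArg Subtype.val v.2.1⟩,
            congrArg Subtype.val v.2.2⟩
          left_inv := fun v => rfl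
          right_inv := fun v => rfl }
    have hcopU : (Nat.card U).Coprime p := hcop.coprime_dvd_left (card_subgroup_dvd_card U)
    have hstep : ∀ x : P, (∏ i : Fin p, Nat.card ↥(U ⊓ fixSub (φ (x * z ^ (i : ℕ))))) *
        Nat.card L ≤ Nat.card U * Nat.card ↥(L ⊓ fixSub (φ x)) ^ p := by
      intro x
      have h := coset_bound (⊤ : Subgroup U) hcopU (ψ x) (ψ z)
        (fun _ _ => trivial) (hcomm x) hzp
      simp only [top_inf_eq, ← map_pow, ← map_mul, ← hsub, ← hsub', Subgroup.card_top] at h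
      exact h
    -- multiply over `P`
    have hprod : (∏ x : P, Nat.card ↥(U ⊓ fixSub (φ x))) ^ p * Nat.card L ^ Fintype.card P ≤
        Nat.card U ^ Fintype.card P * (∏ x : P, Nat.card ↥(L ⊓ fixSub (φ x))) ^ p := by
      have h1 : (∏ x : P, Nat.card ↥(U ⊓ fixSub (φ x))) ^ p =
          ∏ x : P, ∏ i : Fin p, Nat.card ↥(U ⊓ fixSub (φ (x * z ^ (i : ℕ)))) := by
        rw [Finset.prod_comm]
        have h2 : ∀ i : Fin p, ∏ x : P, Nat.card ↥(U ⊓ fixSub (φ (x * z ^ (i : ℕ)))) =
            ∏ x : P, Nat.card ↥(U ⊓ fixSub (φ x)) := fun i =>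
          Equiv.prod_comp (Equiv.mulRight (z ^ (i : ℕ))) (fun x => Nat.card ↥(U ⊓ fixSub (φ x)))
        simp only [h2, Finset.prod_const, Finset.card_univ, Fintype.card_fin]
      rw [h1, ← Finset.card_univ, ← Finset.prod_const, ← Finset.prod_const, ← Finset.prod_mul_distrib,
        ← Finset.prod_pow, ← Finset.prod_mul_distrib]
      exact Finset.prod_le_prod' fun x _ => hstep x
    refine Nat.le_of_mul_le_mul_right (hprod.trans ?_)
      (Nat.pow_pos (n := Fintype.card P) (Nat.card_pos (α := L)))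
    calc Nat.card U ^ Fintype.card P * (∏ x : P, Nat.card ↥(L ⊓ fixSub (φ x))) ^ p
        ≤ Nat.card U ^ Fintype.card P * (Nat.card L ^ Fintype.card P *
          Nat.card ↥(U ⊓ fixAll φ) ^ ((p - 1) * Fintype.card P)) := Nat.mul_le_mul_left _ key
      _ = _ := by ring

end Cfsg.Agent.Gheri
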