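import Cfsg.Agent.Gheri.Fixed

/-!
# Products of fixed point numbers in coprime action

A `p`-group `P` normalising a subgroup `N` of order prime to `p` satisfies
`(∏ x ∈ P, |C_N(x)|) ^ p ≤ |N| ^ |P| * |C_N(P)| ^ ((p - 1) * |P|)`.
-/

set_option linter.style.haveILetI false

namespace Cfsg.Agent.Gheri

open Subgroup
open WielandtFixed (fixCard)

universe u

variable {p : ℕ} [Fact p.Prime]

/-- The inequality, as a property. -/
def Bound (p : ℕ) {G : Type u} [Group G] (N P : Subgroup G) : Prop :=
  (∏ᶠ x : P, fixCard N (zpowers (x : G))) ^ p ≤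
    Nat.card N ^ Nat.card P * fixCard N P ^ ((p - 1) * Nat.card P)

theorem bound_normal_abelian {G : Type u} [Group G] [Finite G] (V P : Subgroup G) [V.Normal]
    (hab : ∀ a ∈ V, ∀ b ∈ V, a * b = b * a) (hP : IsPGroup p P)
    (hcop : (Nat.card V).Coprime p) : Bound p V P := by
  classical
  letI : Fintype P := Fintype.ofFinite _
  letI : CommGroup V :=
    { (inferInstance : Group V) with mul_comm := fun a b => Subtype.ext (hab a a.2 b b.2) }
  let φ : P →* MulAut V := (MulAut.conjNormal (H := V)).comp P.subtype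
  have hφ : ∀ (x : P) (v : V), ((φ x v : V) : G) = x * v * (x : G)⁻¹ := fun x v =>
    MulAut.conjNormal_apply _ _
  have key := abelian_bound hP hcop φ _ ⊤ rfl (fun _ _ _ => trivial)
  have h0 : ∀ (x : P) (v : V), φ x v = v ↔ (x : G) * v = v * x := fun x v => by
    rw [Subtype.ext_iff, hφ, mul_inv_eq_iff_eq_mul]
  have h1 : ∀ x : P, Nat.card ↥((⊤ : Subgroup V) ⊓ fixSub (φ x)) =
      fixCard V (zpowers (x : G)) := fun x =>
    Nat.card_congr
      { toFun := fun v => ⟨v.1, v.1.2, fun a ha => by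
          obtain ⟨k, rfl⟩ := mem_zpowers_iff.1 ha
          exact Commute.zpow_left ((h0 x v.1).1 v.2.2) k⟩
        invFun := fun v => ⟨⟨v.1, v.2.1⟩, trivial, (h0 x ⟨v.1, v.2.1⟩).2
          (v.2.2 _ (mem_zpowers _))⟩
        left_inv := fun v => rfl
        right_inv := fun v => rfl }
  have h2 : Nat.card ↥((⊤ : Subgroup V) ⊓ fixAll φ) = fixCard V P :=
    Nat.card_congr
      { toFun := fun v => ⟨v.1, v.1.2, fun a ha =>
          (h0 ⟨a, ha⟩ v.1).1 (Subgroup.mem_iInf.1 v.2.2 ⟨a, ha⟩)⟩
        invFun := fun v => ⟨⟨v.1, v.2.1⟩, trivial, Subgroup.mem_iInf.2 fun x =>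
          (h0 x ⟨v.1, v.2.1⟩).2 (v.2.2 _ x.2)⟩
        left_inv := fun v => rfl
        right_inv := fun v => rfl }
  simp only [h1, h2, Subgroup.card_top] at key
  rw [Bound, finprod_eq_prod_of_fintype, Nat.card_eq_fintype_card (α := P)]
  exact key

theorem bound_normal_nilpotent {r : ℕ} [Fact r.Prime] :
    ∀ (n : ℕ) (G : Type u) [Group G] [Finite G] (Q P : Subgroup G), Q.Normal → Nat.card Q = n →
      IsPGroup r Q → IsPGroup p P → (Nat.card Q).Coprime p → Bound p Q P := by
  intro n
  induction n using Nat.strong_induction_on with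
  | _ n ih =>
  intro G _ _ Q P hQn hn hQ hP hcop
  classical
  letI : Fintype P := Fintype.ofFinite _
  by_cases hQ1 : Q = ⊥
  · subst hQ1
    simp [Bound, WielandtFixed.fixCard_bot]
  set V : Subgroup G := (center Q).map Q.subtype with hV
  have : (center Q).Characteristic := inferInstance
  have hVn : V.Normal := ConjAct.normal_of_characteristic_of_normal
  have hVQ : V ≤ Q := map_subtype_le _
  have hab : ∀ a ∈ V, ∀ b ∈ V, a * b = b * a := by
    rintro _ ⟨a, ha, rfl⟩ _ ⟨b, -, rfl⟩
    exact (congrArg Subtype.val (Subgroup.mem_center_iff.1 ha b)).symm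
  have : Nontrivial Q := (Subgroup.nontrivial_iff_ne_bot Q).2 hQ1
  have : Nontrivial (center Q) := hQ.center_nontrivial
  have hV1 : 1 < Nat.card V := by
    rw [hV, Subgroup.card_map_of_injective Q.subtype_injective]
    exact Finite.one_lt_card
  set f := QuotientGroup.mk' V with hf
  have hcard : Nat.card V * Nat.card (Q.map f) = Nat.card Q := by
    have h := WielandtFixed.card_map_mul_card_inf_ker f Q
    rwa [hf, QuotientGroup.ker_mk', inf_eq_right.2 hVQ] at h
  have hcopV : (Nat.card V).Coprime p := hcop.coprime_dvd_left (card_dvd_of_le hVQ)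
  have hlt : Nat.card (Q.map f) < n := by
    rw [← hn, ← hcard]
    exact lt_mul_left Nat.card_pos hV1
  have key := ih _ hlt (G ⧸ V) (Q.map f) (P.map f) (hQn.map f (QuotientGroup.mk'_surjective V))
    rfl (hQ.map f) (hP.map f) (hcop.coprime_dvd_left (hcard ▸ dvd_mul_left _ _))
  have hcopPV : ∀ A : Subgroup G, A ≤ P → (Nat.card A).Coprime (Nat.card V) := fun A hA => by
    obtain ⟨k, hk⟩ := IsPGroup.iff_card.1 (hP.to_le hA)
    rw [hk]
    exact hcopV.symm.pow_left k
  have hsolv : Group.IsSolvable V :=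
    Group.isSolvable_of_comm fun a b => Subtype.ext (hab a a.2 b b.2)
  have hstep : ∀ A : Subgroup G, A ≤ P →
      fixCard Q A = fixCard V A * fixCard (Q.map f) (A.map f) := fun A hA =>
    WielandtFixed.fixCard_quotient hVQ Subgroup.le_normalizer_of_normal (hcopPV A hA) hsolv
  let g : P →* P.map f := f.subgroupMap P
  have hg : Function.Bijective g := by
    refine ⟨(injective_iff_map_eq_one g).2 fun x hx => ?_, f.subgroupMap_surjective P⟩
    have h1 : (x : G) ∈ P ⊓ V := mem_inf.2
      ⟨x.2, (QuotientGroup.eq_one_iff _).1 (congrArg Subtype.val hx)⟩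
    rw [inf_eq_bot_of_coprime (hcopPV P le_rfl), Subgroup.mem_bot] at h1
    exact Subtype.ext h1
  letI : Fintype (P.map f) := Fintype.ofFinite _
  have hcardP : Nat.card (P.map f) = Nat.card P := (Nat.card_eq_of_bijective g hg).symm
  rw [Bound, finprod_eq_prod_of_fintype, hcardP] at key
  have hprod : ∏ x : P, fixCard Q (zpowers (x : G)) = (∏ x : P, fixCard V (zpowers (x : G))) *
      ∏ y : P.map f, fixCard (Q.map f) (zpowers (y : G ⧸ V)) := by
    rw [← Function.Bijective.prod_comp hg (fun y => fixCard (Q.map f) (zpowers (y : G ⧸ V))),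
      ← Finset.prod_mul_distrib]
    refine Finset.prod_congr rfl fun x _ => ?_
    rw [hstep _ (zpowers_le.2 x.2), MonoidHom.map_zpowers]
    rfl
  have hb := bound_normal_abelian V P hab hP hcopV
  rw [Bound, finprod_eq_prod_of_fintype] at hb
  rw [Bound, finprod_eq_prod_of_fintype, hprod, hstep P le_rfl, ← hcard, mul_pow, mul_pow, mul_pow]
  calc _ ≤ (Nat.card V ^ Nat.card P * fixCard V P ^ ((p - 1) * Nat.card P)) *
        (Nat.card (Q.map f) ^ Nat.card P *
          fixCard (Q.map f) (P.map f) ^ ((p - 1) * Nat.card P)) := Nat.mul_le_mul hb key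
    _ = _ := by ring

theorem bound_pgroup {r : ℕ} [Fact r.Prime] {G : Type u} [Group G] [Finite G] (Q P : Subgroup G)
    (hPQ : P ≤ normalizer (Q : Set G)) (hQ : IsPGroup r Q) (hP : IsPGroup p P)
    (hcop : (Nat.card Q).Coprime p) : Bound p Q P := by
  classical
  set Y := Q ⊔ P
  have hQY : Q ≤ Y := le_sup_left
  have hPY : P ≤ Y := le_sup_right
  have hQn : (Q.subgroupOf Y).Normal :=
    (normal_subgroupOf_iff_le_normalizer hQY).2 (sup_le Subgroup.le_normalizer hPQ)
  have hcQ : Nat.card (Q.subgroupOf Y) = Nat.card Q :=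
    Nat.card_congr (subgroupOfEquivOfLe hQY).toEquiv
  have key := bound_normal_nilpotent (p := p) (r := r) _ Y (Q.subgroupOf Y) (P.subgroupOf Y) hQn rfl
    (hQ.of_equiv (subgroupOfEquivOfLe hQY).symm) (hP.of_equiv (subgroupOfEquivOfLe hPY).symm)
    (hcQ ▸ hcop)
  letI : Fintype P := Fintype.ofFinite _
  letI : Fintype (P.subgroupOf Y) := Fintype.ofFinite _
  have hprod : ∏ x : P.subgroupOf Y, fixCard (Q.subgroupOf Y) (zpowers (x : Y)) =
      ∏ x : P, fixCard Q (zpowers (x : G)) := by
    rw [← (subgroupOfEquivOfLe hPY).symm.toEquiv.prod_comp]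
    refine Finset.prod_congr rfl fun x _ => ?_
    rw [← WielandtFixed.fixCard_subgroupOf hQY (zpowers_le.2 (hPY x.2))]
    congr 1
    ext y
    rw [mem_subgroupOf, mem_zpowers_iff, mem_zpowers_iff]
    simp only [Subtype.ext_iff, SubgroupClass.coe_zpow]
    rfl
  rw [Bound, finprod_eq_prod_of_fintype, hprod, WielandtFixed.fixCard_subgroupOf hQY hPY, hcQ,
    Nat.card_congr (subgroupOfEquivOfLe hPY).toEquiv] at key
  rw [Bound, finprod_eq_prod_of_fintype]
  exact key

theorem eq_prod_ordProj {n N : ℕ} (hN : N ≠ 0) (h : n ∣ N) :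
    n = ∏ r ∈ N.primeFactors, r ^ n.factorization r := by
  have hn : n ≠ 0 := fun e => hN (Nat.eq_zero_of_zero_dvd (e ▸ h))
  conv_lhs => rw [← Nat.prod_factorization_pow_eq_self hn]
  refine Finsupp.prod_of_support_subset _ ?_ _ (fun i _ => pow_zero i)
  rw [Nat.support_factorization]
  exact Nat.primeFactors_mono h hN

/-- **The inequality for coprime action.** -/
theorem bound_of_coprime {G : Type u} [Group G] [Finite G] (N P : Subgroup G)
    (hPN : P ≤ normalizer (N : Set G)) (hP : IsPGroup p P) (hcop : (Nat.card N).Coprime p) :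
    Bound p N P := by
  classical
  letI : Fintype P := Fintype.ofFinite _
  rw [Bound, finprod_eq_prod_of_fintype]
  have hcopA : ∀ A : Subgroup G, A ≤ P → (Nat.card A).Coprime (Nat.card N) := fun A hA => by
    obtain ⟨k, hk⟩ := IsPGroup.iff_card.1 (hP.to_le hA)
    rw [hk]
    exact hcop.symm.pow_left k
  have hsolv : ∀ A : Subgroup G, A ≤ P → Group.IsSolvable A := fun A hA => by
    have := (hP.to_le hA).isNilpotent
    infer_instance
  set S := (Nat.card N).primeFactors
  have hN : Nat.card N ≠ 0 := Nat.card_pos.ne'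
  have hdvd : ∀ A : Subgroup G, fixCard N A ∣ Nat.card N := fun A => card_dvd_of_le inf_le_left
  have hex : ∀ A : Subgroup G, fixCard N A = ∏ r ∈ S, r ^ (fixCard N A).factorization r :=
    fun A => eq_prod_ordProj hN (hdvd A)
  have hrs : ∀ r ∈ S, (∏ x : P, r ^ (fixCard N (zpowers (x : G))).factorization r) ^ p ≤
      (r ^ (Nat.card N).factorization r) ^ Nat.card P *
        (r ^ (fixCard N P).factorization r) ^ ((p - 1) * Nat.card P) := by
    intro r hr
    have : Fact r.Prime := ⟨Nat.prime_of_mem_primeFactors hr⟩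
    obtain ⟨Q, hQ⟩ := Coprime.exists_invariant_sylow hPN (hcopA P le_rfl)
      (Or.inl (hsolv P le_rfl)) r
    have hA : ∀ A : Subgroup G, A ≤ P → fixCard ((Q : Subgroup N).map N.subtype) A =
        r ^ (fixCard N A).factorization r := fun A hA =>
      Coprime.card_sylow_inf_centralizer (hA.trans hPN) (hcopA A hA) (Or.inl (hsolv A hA)) Q
        (hA.trans hQ)
    have h := bound_pgroup ((Q : Subgroup N).map N.subtype) P hQ (Q.2.map _) hP
      (hcop.coprime_dvd_left (card_dvd_of_le (map_subtype_le _)))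
    rw [Bound, finprod_eq_prod_of_fintype, hA P le_rfl, Coprime.card_sylow_map] at h
    rw [Finset.prod_congr rfl fun (x : P) _ => hA (zpowers (x : G)) (zpowers_le.2 x.2)] at h
    exact h
  rw [Finset.prod_congr rfl fun (x : P) _ => hex (zpowers (x : G)), Finset.prod_comm, hex P,
    eq_prod_ordProj hN dvd_rfl, ← Finset.prod_pow, ← Finset.prod_pow, ← Finset.prod_pow,
    ← Finset.prod_mul_distrib]
  exact Finset.prod_le_prod' hrs

end Cfsg.Agent.Gheri
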