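import Mathlib
import Cfsg.Agent.Coprime.Tools

/-!
# Lifting p-subgroups through a normal subgroup of order prime to p

For `N` normal of order prime to `p`, a `p`-subgroup `H` and a `p`-subgroup `Rb` of `G ⧸ N`
containing the image of `H`, the lifts `R ⊇ H` of `Rb` are permuted transitively by `C_N(H)`.
-/

namespace Cfsg.Agent.Gheri

open Subgroup
open scoped Pointwise

variable {G : Type*} [Group G] [Finite G] {p : ℕ} [Fact p.Prime] (N : Subgroup G) [N.Normal]

/-- The `p`-subgroups over `H` mapping onto `Rb`. -/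
def Lifts (p : ℕ) (H : Subgroup G) (Rb : Subgroup (G ⧸ N)) : Type _ :=
  {R : Subgroup G // IsPGroup p R ∧ H ≤ R ∧ R.map (QuotientGroup.mk' N) = Rb}

variable {N}

theorem inf_eq_bot_of_pgroup {R : Subgroup G} (hR : IsPGroup p R)
    (hcop : (Nat.card N).Coprime p) : R ⊓ N = ⊥ := by
  obtain ⟨k, hk⟩ := IsPGroup.iff_card.1 hR
  exact disjoint_iff.1 (Subgroup.disjoint_of_coprime_natCard (by
    rw [hk]; exact hcop.symm.pow_left k))

theorem eq_of_le_of_map_le {R S : Subgroup G} (hS : IsPGroup p S) (hcop : (Nat.card N).Coprime p)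
    (hle : R ≤ S) (h : S.map (QuotientGroup.mk' N) ≤ R.map (QuotientGroup.mk' N)) : R = S := by
  refine le_antisymm hle fun s hs => ?_
  obtain ⟨r, hr, hrs⟩ := h (mem_map_of_mem _ hs)
  have h1 : r⁻¹ * s ∈ S ⊓ N := mem_inf.2
    ⟨S.mul_mem (S.inv_mem (hle hr)) hs, QuotientGroup.eq.1 hrs⟩
  rw [inf_eq_bot_of_pgroup hS hcop, Subgroup.mem_bot, inv_mul_eq_one] at h1
  exact h1 ▸ hr

theorem exists_lift {H : Subgroup G} {Rb : Subgroup (G ⧸ N)} (hH : IsPGroup p H)
    (hcop : (Nat.card N).Coprime p) (hRb : IsPGroup p Rb)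
    (hle : H.map (QuotientGroup.mk' N) ≤ Rb) : Nonempty (Lifts N p H Rb) := by
  set f := QuotientGroup.mk' N
  set Y := Rb.comap f with hY
  have hHY : H ≤ Y := map_le_iff_le_comap.1 hle
  obtain ⟨P, hP⟩ := (hH.of_equiv (subgroupOfEquivOfLe hHY).symm).exists_le_sylow
  set R := (P : Subgroup Y).map Y.subtype with hR
  have hRY : R ≤ Y := map_subtype_le _
  have hRp : IsPGroup p R := P.2.map _
  have hHR : H ≤ R := by
    have := map_mono (f := Y.subtype) hP
    rwa [map_subgroupOf_eq_of_le hHY] at this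
  have hmap : R.map f ≤ Rb := map_le_iff_le_comap.2 hRY
  refine ⟨⟨R, hRp, hHR, eq_of_le_of_card_ge hmap ?_⟩⟩
  have hcRb : Nat.card Rb * Nat.card N = Nat.card Y := by
    have h1 := Subgroup.card_mul_index Y
    have h2 := Subgroup.card_mul_index Rb
    rw [hY, Subgroup.index_comap_of_surjective Rb (QuotientGroup.mk'_surjective N), ← hY] at h1
    rw [← Subgroup.card_eq_card_quotient_mul_card_subgroup N |>.symm.trans rfl] at h1
    have h4 : Rb.index ≠ 0 := Subgroup.index_ne_zero_of_finite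
    refine Nat.eq_of_mul_eq_mul_right (Nat.pos_of_ne_zero h4) ?_
    rw [h1, mul_right_comm, h2]
  have hcR : Nat.card R = Nat.card (R.map f) := by
    refine Nat.card_eq_of_bijective (f.subgroupMap R)
      ⟨(injective_iff_map_eq_one _).2 fun x hx => ?_, f.subgroupMap_surjective R⟩
    have h1 : (x : G) ∈ R ⊓ N := mem_inf.2
      ⟨x.2, (QuotientGroup.eq_one_iff _).1 (congrArg Subtype.val hx)⟩
    rw [inf_eq_bot_of_pgroup hRp hcop, Subgroup.mem_bot] at h1
    exact Subtype.ext h1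
  rw [← hcR, hR, Subgroup.card_map_of_injective Y.subtype_injective, P.card_eq_multiplicity]
  obtain ⟨k, hk⟩ := IsPGroup.iff_card.1 hRb
  rw [← hcRb, hk, Nat.factorization_mul (pow_ne_zero _ (Fact.out : p.Prime).ne_zero)
    Nat.card_pos.ne', Finsupp.add_apply, (Fact.out : p.Prime).factorization_pow,
    Finsupp.single_eq_same, Nat.factorization_eq_zero_of_not_dvd fun hd =>
      (Fact.out : p.Prime).coprime_iff_not_dvd.1 hcop.symm hd, add_zero]

theorem exists_conj_lift {H : Subgroup G} {Rb : Subgroup (G ⧸ N)}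
    (hcop : (Nat.card N).Coprime p) (R S : Lifts N p H Rb) :
    ∃ n ∈ N ⊓ centralizer (H : Set G), MulAut.conj n • R.1 = S.1 := by
  set f := QuotientGroup.mk' N
  set Y := Rb.comap f
  have hle : ∀ T : Lifts N p H Rb, T.1 ≤ Y := fun T => map_le_iff_le_comap.1 T.2.2.2.le
  have hmax : ∀ T : Lifts N p H Rb, ∀ Q : Subgroup Y, IsPGroup p Q → T.1.subgroupOf Y ≤ Q →
      Q = T.1.subgroupOf Y := by
    intro T Q hQ hTQ
    have h1 : T.1 = Q.map Y.subtype := by
      refine eq_of_le_of_map_le (hQ.map _) hcop ?_ ?_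
      · have := map_mono (f := Y.subtype) hTQ
        rwa [map_subgroupOf_eq_of_le (hle T)] at this
      · rw [T.2.2.2, map_le_iff_le_comap]
        exact map_subtype_le _
    apply map_injective Y.subtype_injective
    rw [← h1, map_subgroupOf_eq_of_le (hle T)]
  let syl : Lifts N p H Rb → Sylow p Y := fun T =>
    ⟨T.1.subgroupOf Y, T.2.1.of_equiv (subgroupOfEquivOfLe (hle T)).symm, fun {Q} => hmax T Q⟩
  obtain ⟨y, hy⟩ := MulAction.exists_smul_eq Y (syl R) (syl S)
  obtain ⟨r, hr, hry⟩ : (f (y : G)) ∈ R.1.map f := by rw [R.2.2.2]; exact y.2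
  set n := (y : G) * r⁻¹ with hn
  have hnN : n ∈ N := by
    have h : f n = 1 := by rw [hn, map_mul, map_inv, hry, mul_inv_cancel]
    exact (QuotientGroup.eq_one_iff _).1 h
  have hconj : MulAut.conj n • R.1 = S.1 := by
    have h1 := congrArg (fun Q : Sylow p Y => ((Q : Subgroup Y).map Y.subtype)) hy
    simp only [Sylow.coe_subgroup_smul, syl] at h1
    rw [Coprime.conj_smul_map_subtype, map_subgroupOf_eq_of_le (hle R),
      map_subgroupOf_eq_of_le (hle S)] at h1
    rw [hn, map_mul, mul_smul, Subgroup.conj_smul_eq_self_of_mem (R.1.inv_mem hr)]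
    exact h1
  refine ⟨n, mem_inf.2 ⟨hnN, mem_centralizer_iff.2 fun h hh => ?_⟩, hconj⟩
  have h1 : n⁻¹ * h * n ∈ R.1 := by
    have h2 : h ∈ MulAut.conj n • R.1 := hconj ▸ S.2.2.1 hh
    rw [mem_pointwise_smul_iff_inv_smul_mem] at h2
    simpa [MulAut.smul_def] using h2
  have h3 : n⁻¹ * h * n * h⁻¹ ∈ R.1 ⊓ N := mem_inf.2 ⟨R.1.mul_mem h1 (R.1.inv_mem (R.2.2.1 hh)), by
    have := N.mul_mem (N.inv_mem hnN) ((inferInstance : N.Normal).conj_mem n hnN h)
    simpa [mul_assoc] using this⟩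
  rw [inf_eq_bot_of_pgroup R.2.1 hcop, Subgroup.mem_bot, mul_inv_eq_one] at h3
  calc h * n = n * (n⁻¹ * h * n) := by simp [mul_assoc]
    _ = n * h := by rw [h3]

theorem conj_lift_mem {H : Subgroup G} {Rb : Subgroup (G ⧸ N)} (R : Lifts N p H Rb)
    {n : G} (hn : n ∈ N ⊓ centralizer (H : Set G)) :
    IsPGroup p ↥(MulAut.conj n • R.1) ∧ H ≤ MulAut.conj n • R.1 ∧
      (MulAut.conj n • R.1).map (QuotientGroup.mk' N) = Rb := by
  refine ⟨R.2.1.map _, fun h hh => ?_, ?_⟩
  · refine ⟨h, R.2.2.1 hh, ?_⟩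
    have := mem_centralizer_iff.1 (mem_inf.1 hn).2 h hh
    simp [MulAut.smul_def, ← this]
  · rw [Coprime.map_conj_smul, R.2.2.2,
      show QuotientGroup.mk' N n = 1 from (QuotientGroup.eq_one_iff _).2 (mem_inf.1 hn).1,
      map_one, one_smul]

/-- An element normalising a lift and lying in `N` centralises it. -/
theorem mem_centralizer_of_normalizes {R : Subgroup G} (hR : IsPGroup p R)
    (hcop : (Nat.card N).Coprime p) {n : G} (hn : n ∈ N) (h : MulAut.conj n • R = R) :
    n ∈ centralizer (R : Set G) := by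
  refine mem_centralizer_iff.2 fun r hr => ?_
  have h1 : n * r * n⁻¹ ∈ R := by
    rw [← h]
    exact ⟨r, hr, by simp [MulAut.smul_def]⟩
  have h3 : n * r * n⁻¹ * r⁻¹ ∈ R ⊓ N := mem_inf.2 ⟨R.mul_mem h1 (R.inv_mem hr), by
    have := N.mul_mem hn ((inferInstance : N.Normal).conj_mem n⁻¹ (N.inv_mem hn) r)
    simpa [mul_assoc] using this⟩
  rw [inf_eq_bot_of_pgroup hR hcop, Subgroup.mem_bot, mul_inv_eq_one, mul_inv_eq_iff_eq_mul] at h3
  exact h3.symm

/-- The number of lifts. -/
theorem card_lifts {H : Subgroup G} {Rb : Subgroup (G ⧸ N)} (hcop : (Nat.card N).Coprime p)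
    (R : Lifts N p H Rb) :
    Nat.card (Lifts N p H Rb) * Nat.card ↥(N ⊓ centralizer (R.1 : Set G)) =
      Nat.card ↥(N ⊓ centralizer (H : Set G)) := by
  set C := N ⊓ centralizer (H : Set G)
  set S := N ⊓ centralizer (R.1 : Set G)
  have hSC : S ≤ C := inf_le_inf_left _ (centralizer_le R.2.2.1)
  let f : C ⧸ S.subgroupOf C → Lifts N p H Rb :=
    Quotient.lift (fun c : C => ⟨MulAut.conj (c : G) • R.1, conj_lift_mem R c.2⟩) fun a b hab => by
      have h1 : ((a⁻¹ * b : C) : G) ∈ centralizer (R.1 : Set G) :=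
        (mem_inf.1 (mem_subgroupOf.1 ((QuotientGroup.leftRel_apply).1 hab))).2
      apply Subtype.ext
      show MulAut.conj (a : G) • R.1 = MulAut.conj (b : G) • R.1
      have h2 : MulAut.conj ((a⁻¹ * b : C) : G) • R.1 = R.1 :=
        Coprime.conj_smul_eq_self_of_mem_normalizer (Subgroup.centralizer_le_normalizer _ h1)
      calc MulAut.conj (a : G) • R.1
          = MulAut.conj (a : G) • MulAut.conj ((a⁻¹ * b : C) : G) • R.1 := by rw [h2]
        _ = _ := by rw [← mul_smul, ← map_mul]; simp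
  have hf : Function.Bijective f := by
    refine ⟨?_, fun T => ?_⟩
    · intro a b
      induction a using QuotientGroup.induction_on with | _ a => ?_
      induction b using QuotientGroup.induction_on with | _ b => ?_
      intro h
      have h' : MulAut.conj (a : G) • R.1 = MulAut.conj (b : G) • R.1 := congrArg Subtype.val h
      have h2 : MulAut.conj ((a⁻¹ * b : C) : G) • R.1 = R.1 := by
        rw [Subgroup.coe_mul, map_mul, mul_smul, ← h', ← mul_smul, ← map_mul]
        simp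
      exact QuotientGroup.eq.2 (mem_subgroupOf.2 (mem_inf.2 ⟨(a⁻¹ * b).2.1,
        mem_centralizer_of_normalizes R.2.1 hcop (a⁻¹ * b).2.1 h2⟩))
    · obtain ⟨n, hn, hnR⟩ := exists_conj_lift hcop R T
      exact ⟨QuotientGroup.mk (⟨n, hn⟩ : C), Subtype.ext hnR⟩
  rw [← Nat.card_eq_of_bijective f hf, ← Nat.card_congr (subgroupOfEquivOfLe hSC).toEquiv,
    ← Subgroup.card_eq_card_quotient_mul_card_subgroup]

end Cfsg.Agent.Gheri
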