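import Cfsg.Agent.Gheri.Lift
import Cfsg.Agent.Layer.Subnormal
import Cfsg.Agent.Core.PCore
import Cfsg.Agent.Coprime.Tools

/-!
# Counting the subnormalizer of a p-subgroup in a p-solvable group

`H` is subnormal in `⟨H, g⟩` if and only if a `p`-subgroup containing `H` is normalised by `g`.
Across a normal subgroup `N` of order prime to `p` every such element of `G ⧸ N` has exactly
`|C_N(H)|` such preimages.
-/

set_option linter.style.haveILetI false
set_option linter.unusedSectionVars false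

namespace Cfsg.Agent.Gheri

open Subgroup
open scoped Pointwise

universe u

variable {G : Type u} [Group G] {p : ℕ}

/-- `g` normalises a `p`-subgroup over `H`. -/
def Good (p : ℕ) (H : Subgroup G) (g : G) : Prop :=
  ∃ R : Subgroup G, IsPGroup p R ∧ H ≤ R ∧ g ∈ normalizer (R : Set G)

/-- The least subgroup over `H` normalised by `g`. -/
def hull (H : Subgroup G) (g : G) : Subgroup G :=
  sInf {R : Subgroup G | H ≤ R ∧ g ∈ normalizer (R : Set G)}

theorem le_hull (H : Subgroup G) (g : G) : H ≤ hull H g := le_sInf fun _ h => h.1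

theorem hull_le {H R : Subgroup G} {g : G} (h1 : H ≤ R) (h2 : g ∈ normalizer (R : Set G)) :
    hull H g ≤ R := sInf_le ⟨h1, h2⟩

theorem mem_normalizer_hull (H : Subgroup G) (g : G) : g ∈ normalizer (hull H g : Set G) := by
  rw [mem_normalizer_iff]
  intro x
  constructor
  · intro hx
    exact Subgroup.mem_sInf.2 fun R hR =>
      (mem_normalizer_iff.1 hR.2 x).1 (Subgroup.mem_sInf.1 hx R hR)
  · intro hx
    exact Subgroup.mem_sInf.2 fun R hR =>
      (mem_normalizer_iff.1 hR.2 x).2 (Subgroup.mem_sInf.1 hx R hR)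

theorem good_iff_hull {H : Subgroup G} {g : G} : Good p H g ↔ IsPGroup p (hull H g) :=
  ⟨fun ⟨_, hR, h1, h2⟩ => hR.to_le (hull_le h1 h2),
    fun h => ⟨_, h, le_hull H g, mem_normalizer_hull H g⟩⟩

theorem isSubnormal_in_pgroup {A : Type*} [Group A] [Finite A] [Fact p.Prime] (hA : IsPGroup p A) :
    ∀ H : Subgroup A, H.IsSubnormal := by
  intro H
  induction H using WellFoundedGT.induction with
  | _ H ih =>
  rcases eq_or_ne H ⊤ with rfl | hne
  · exact IsSubnormal.top
  have : Group.IsNilpotent A := hA.isNilpotent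
  have hlt : H < normalizer (H : Set A) :=
    Group.normalizerCondition_of_isNilpotent H (lt_top_iff_ne_top.mpr hne)
  exact IsSubnormal.step H _ le_normalizer (ih _ hlt)
    ((normal_subgroupOf_iff_le_normalizer le_normalizer).mpr le_rfl)

theorem isSubnormal_iff_good [Finite G] [Fact p.Prime] {H : Subgroup G} (hH : IsPGroup p H)
    (g : G) : (H.subgroupOf (H ⊔ zpowers g)).IsSubnormal ↔ Good p H g := by
  set X := H ⊔ zpowers g
  have hHX : H ≤ X := le_sup_left
  constructor
  · intro h
    have h1 : H.subgroupOf X ≤ Cfsg.pCore p X :=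
      Layer.subnormal_le_pCore h (hH.of_equiv (subgroupOfEquivOfLe hHX).symm)
    refine ⟨(Cfsg.pCore p X).map X.subtype, Core.pCore_isPGroup.map _, ?_, ?_⟩
    · have := map_mono (f := X.subtype) h1
      rwa [map_subgroupOf_eq_of_le hHX] at this
    · have hgX : g ∈ X := mem_sup_right (mem_zpowers g)
      have hn : (⟨g, hgX⟩ : X) ∈ normalizer (Cfsg.pCore p X : Set X) := by
        rw [Subgroup.normalizer_eq_top]
        trivial
      exact Subgroup.le_normalizer_map X.subtype (mem_map_of_mem _ hn)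
  · rintro ⟨R, hR, hHR, hg⟩
    have hXR : X ≤ normalizer (R : Set G) :=
      sup_le (hHR.trans Subgroup.le_normalizer) (zpowers_le.2 hg)
    set D := (R ⊓ X).subgroupOf X with hD
    have hDn : D.Normal := (normal_subgroupOf_iff_le_normalizer inf_le_right).2
      (Coprime.le_normalizer_inf_of_le hXR le_rfl)
    have hHD : H.subgroupOf X ≤ D := fun x hx => mem_subgroupOf.2 (mem_inf.2 ⟨hHR hx, x.2⟩)
    have hDp : IsPGroup p D :=
      (hR.to_le inf_le_left).of_equiv (subgroupOfEquivOfLe inf_le_right).symm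
    have : Group.IsNilpotent D := hDp.isNilpotent
    exact Subgroup.IsSubnormal.trans hHD
      (isSubnormal_in_pgroup hDp _)
      hDn.isSubnormal

theorem map_hull {G' : Type*} [Group G'] (f : G →* G') (hf : Function.Surjective f)
    (H : Subgroup G) (g : G) : (hull H g).map f = hull (H.map f) (f g) := by
  refine le_antisymm ?_ (hull_le (map_mono (le_hull H g))
    (Subgroup.le_normalizer_map f (mem_map_of_mem f (mem_normalizer_hull H g))))
  rw [map_le_iff_le_comap]
  refine hull_le (map_le_iff_le_comap.1 (le_hull _ _)) ?_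
  rw [mem_normalizer_iff]
  intro x
  rw [mem_comap, mem_comap, map_mul, map_mul, map_inv]
  exact mem_normalizer_iff.1 (mem_normalizer_hull _ _) (f x)

variable [Finite G] [Fact p.Prime] (N : Subgroup G) [N.Normal]

theorem good_mk {H : Subgroup G} {g : G} (h : Good p H g) :
    Good p (H.map (QuotientGroup.mk' N)) (g : G ⧸ N) := by
  rw [good_iff_hull] at h ⊢
  rw [show (g : G ⧸ N) = QuotientGroup.mk' N g from rfl,
    ← map_hull _ (QuotientGroup.mk'_surjective N)]
  exact h.map _

/-- The elements over a good element of the quotient which are good, counted. -/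
theorem card_fibre {H : Subgroup G} (hH : IsPGroup p H) (hcop : (Nat.card N).Coprime p)
    {gb : G ⧸ N} (hgb : Good p (H.map (QuotientGroup.mk' N)) gb) :
    Nat.card {g : G // Good p H g ∧ (g : G ⧸ N) = gb} =
      Nat.card ↥(N ⊓ centralizer (H : Set G)) := by
  classical
  set f := QuotientGroup.mk' N with hf
  set Rb := hull (H.map f) gb with hRb
  have hRbp : IsPGroup p Rb := good_iff_hull.1 hgb
  obtain ⟨R₀⟩ := exists_lift hH hcop hRbp (le_hull _ _)
  letI : Fintype (Lifts N p H Rb) := @Fintype.ofFinite _ (Subtype.finite)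
  -- each lift is normalised by `|C_N(R)|` preimages of `gb`
  have hcoset : ∀ R : Lifts N p H Rb,
      Nat.card {g : G // (g : G ⧸ N) = gb ∧ g ∈ normalizer (R.1 : Set G)} =
        Nat.card ↥(N ⊓ centralizer (R.1 : Set G)) := by
    intro R
    obtain ⟨g₀, rfl⟩ := QuotientGroup.mk_surjective gb
    let R' : Lifts N p ⊥ Rb := ⟨MulAut.conj g₀ • R.1, R.2.1.map _, bot_le, by
      rw [Coprime.map_conj_smul, R.2.2.2]
      exact Coprime.conj_smul_eq_self_of_mem_normalizer (mem_normalizer_hull _ _)⟩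
    obtain ⟨n, hn, hnR⟩ := exists_conj_lift hcop (⟨R.1, R.2.1, bot_le, R.2.2.2⟩ : Lifts N p ⊥ Rb) R'
    have hnR' : MulAut.conj n • R.1 = MulAut.conj g₀ • R.1 := hnR
    have hnN : (n : G ⧸ N) = 1 := (QuotientGroup.eq_one_iff _).2 (mem_inf.1 hn).1
    set g₁ := n⁻¹ * g₀ with hg₁
    have hg₁R : g₁ ∈ normalizer (R.1 : Set G) := Coprime.mem_normalizer_of_conj_smul_eq (by
      rw [hg₁, Coprime.conj_mul_smul, ← hnR', ← Coprime.conj_mul_smul, inv_mul_cancel, map_one,
        one_smul])
    have hg₁b : (g₁ : G ⧸ N) = (g₀ : G ⧸ N) := by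
      rw [hg₁, QuotientGroup.mk_mul, QuotientGroup.mk_inv, hnN, inv_one, one_mul]
    refine Nat.card_congr
      { toFun := fun g => ⟨g₁⁻¹ * g.1, ?_⟩
        invFun := fun c => ⟨g₁ * c.1, ?_, ?_⟩
        left_inv := fun g => Subtype.ext (mul_inv_cancel_left _ _)
        right_inv := fun c => Subtype.ext (inv_mul_cancel_left _ _) }
    · have h1 : g₁⁻¹ * g.1 ∈ N := QuotientGroup.eq.1 (hg₁b.trans g.2.1.symm)
      exact mem_inf.2 ⟨h1, mem_centralizer_of_normalizes R.2.1 hcop h1
        (Coprime.conj_smul_eq_self_of_mem_normalizer (mul_mem (inv_mem hg₁R) g.2.2))⟩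
    · rw [QuotientGroup.mk_mul, hg₁b, (QuotientGroup.eq_one_iff _).2 (mem_inf.1 c.2).1, mul_one]
    · exact mul_mem hg₁R (Subgroup.centralizer_le_normalizer _ (mem_inf.1 c.2).2)
  have hconst : ∀ R : Lifts N p H Rb, Nat.card ↥(N ⊓ centralizer (R.1 : Set G)) =
      Nat.card ↥(N ⊓ centralizer (R₀.1 : Set G)) := by
    intro R
    have h1 := card_lifts hcop R
    rw [← card_lifts hcop R₀] at h1
    have : 0 < Nat.card (Lifts N p H Rb) := @Nat.card_pos _ ⟨R₀⟩ (Subtype.finite)
    exact Nat.eq_of_mul_eq_mul_left this h1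
  -- a good preimage normalises exactly one lift
  have hhull : ∀ g : G, Good p H g → (g : G ⧸ N) = gb → (hull H g).map f = Rb := fun g _ e => by
    rw [map_hull f (QuotientGroup.mk'_surjective N), hRb]
    exact congrArg _ e
  have huniq : ∀ (g : G) (R : Lifts N p H Rb), (g : G ⧸ N) = gb →
      g ∈ normalizer (R.1 : Set G) → R.1 = hull H g := fun g R e hn => by
    refine (eq_of_le_of_map_le R.2.1 hcop (hull_le R.2.2.1 hn) ?_).symm
    rw [R.2.2.2, hhull g ⟨R.1, R.2.1, R.2.2.1, hn⟩ e]
  let e : {g : G // Good p H g ∧ (g : G ⧸ N) = gb} ≃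
      Σ R : Lifts N p H Rb, {g : G // (g : G ⧸ N) = gb ∧ g ∈ normalizer (R.1 : Set G)} :=
    { toFun := fun g => ⟨⟨hull H g.1, good_iff_hull.1 g.2.1, le_hull _ _, hhull g.1 g.2.1 g.2.2⟩,
        g.1, g.2.2, mem_normalizer_hull _ _⟩
      invFun := fun s => ⟨s.2.1, ⟨s.1.1, s.1.2.1, s.1.2.2.1, s.2.2.2⟩, s.2.2.1⟩
      left_inv := fun g => rfl
      right_inv := fun s =>
        Sigma.subtype_ext (Subtype.ext (huniq s.2.1 s.1 s.2.2.1 s.2.2.2).symm) rfl }
  rw [Nat.card_congr e, Nat.card_sigma, Finset.sum_congr rfl fun R _ => (hcoset R).trans (hconst R),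
    Finset.sum_const, Finset.card_univ, smul_eq_mul, ← Nat.card_eq_fintype_card, card_lifts hcop R₀]

theorem card_good_mul {H : Subgroup G} (hH : IsPGroup p H) (hcop : (Nat.card N).Coprime p) :
    Nat.card {g : G // Good p H g} =
      Nat.card {x : G ⧸ N // Good p (H.map (QuotientGroup.mk' N)) x} *
        Nat.card ↥(N ⊓ centralizer (H : Set G)) := by
  classical
  letI := Fintype.ofFinite {x : G ⧸ N // Good p (H.map (QuotientGroup.mk' N)) x}
  let φ : {g : G // Good p H g} → {x : G ⧸ N // Good p (H.map (QuotientGroup.mk' N)) x} :=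
    fun g => ⟨(g.1 : G ⧸ N), good_mk N g.2⟩
  rw [← Nat.card_congr (Equiv.sigmaFiberEquiv φ), Nat.card_sigma,
    Finset.sum_congr rfl fun x _ => ?_, Finset.sum_const, Finset.card_univ, smul_eq_mul,
    ← Nat.card_eq_fintype_card]
  rw [← card_fibre N hH hcop x.2]
  exact Nat.card_congr
    { toFun := fun g => ⟨g.1.1, g.1.2, congrArg Subtype.val g.2⟩
      invFun := fun g => ⟨⟨g.1, g.2.1⟩, Subtype.ext g.2.2⟩
      left_inv := fun g => rfl
      right_inv := fun g => rfl }

theorem good_of_good_mk (hN : IsPGroup p N) {H : Subgroup G} {g : G}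
    (h : Good p (H.map (QuotientGroup.mk' N)) (g : G ⧸ N)) : Good p H g := by
  obtain ⟨R, hR, hHR, hg⟩ := h
  refine ⟨R.comap (QuotientGroup.mk' N), hR.comap_of_ker_isPGroup _ ?_,
    map_le_iff_le_comap.1 hHR, ?_⟩
  · rwa [QuotientGroup.ker_mk']
  · rw [mem_normalizer_iff]
    intro x
    rw [mem_comap, mem_comap, map_mul, map_mul, map_inv]
    exact mem_normalizer_iff.1 hg _

theorem card_good_pgroup (hN : IsPGroup p N) {H : Subgroup G} :
    Nat.card {g : G // Good p H g} =
      Nat.card {x : G ⧸ N // Good p (H.map (QuotientGroup.mk' N)) x} * Nat.card N := by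
  classical
  rw [← Nat.card_prod]
  refine Nat.card_congr (Equiv.symm
    { toFun := fun x => ⟨Quotient.out x.1.1 * x.2.1, good_of_good_mk N hN (by
        rw [QuotientGroup.mk_mul, QuotientGroup.out_eq', (QuotientGroup.eq_one_iff _).2 x.2.2,
          mul_one]
        exact x.1.2)⟩
      invFun := fun g => (⟨(g.1 : G ⧸ N), good_mk N g.2⟩,
        ⟨(Quotient.out (g.1 : G ⧸ N))⁻¹ * g.1, QuotientGroup.eq.1 (QuotientGroup.out_eq' _)⟩)
      left_inv := fun x => by
        have h : ((Quotient.out x.1.1 * x.2.1 : G) : G ⧸ N) = x.1.1 := by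
          rw [QuotientGroup.mk_mul, QuotientGroup.out_eq', (QuotientGroup.eq_one_iff _).2 x.2.2,
            mul_one]
        refine Prod.ext (Subtype.ext h) (Subtype.ext ?_)
        show (Quotient.out ((Quotient.out x.1.1 * x.2.1 : G) : G ⧸ N))⁻¹ * _ = _
        rw [h, inv_mul_cancel_left]
      right_inv := fun g => Subtype.ext (mul_inv_cancel_left _ _) })

end Cfsg.Agent.Gheri
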