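import Cfsg.Agent.Gheri.FixedProduct
import Cfsg.Agent.Gheri.Chain

/-!
# The number of p-elements of a p-solvable group

With `lam x` the number of Sylow `p`-subgroups containing `x`, the product of `lam x` over a Sylow
`p`-subgroup `P` satisfies `(∏ lam x) ^ p ≤ n ^ |P|`; the arithmetic-geometric mean inequality
then bounds the number of `p`-elements from below.
-/

set_option linter.style.haveILetI false
set_option linter.unusedSectionVars false

namespace Cfsg.Agent.Gheri

open Subgroup
open scoped Pointwise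
open WielandtFixed (fixCard)

universe u

variable {p : ℕ} [Fact p.Prime]

/-- The number of Sylow `p`-subgroups containing an element. -/
noncomputable def lam (p : ℕ) {G : Type u} [Group G] (x : G) : ℕ :=
  Nat.card {Q : Sylow p G // x ∈ Q}

theorem lam_one {G : Type u} [Group G] : lam p (1 : G) = Nat.card (Sylow p G) :=
  Nat.card_congr (Equiv.subtypeUnivEquiv fun Q => one_mem _)

theorem lam_pos {G : Type u} [Group G] [Finite G] {P : Sylow p G} {x : G} (hx : x ∈ P) :
    0 < lam p x := by
  have : Nonempty {Q : Sylow p G // x ∈ Q} := ⟨⟨P, hx⟩⟩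
  exact Nat.card_pos

theorem lam_conj {G : Type u} [Group G] (g x : G) :
    lam p (g * x * g⁻¹) = lam p x := by
  refine Nat.card_congr (Equiv.subtypeEquiv (MulAction.toPerm g⁻¹) fun Q => ?_)
  show g * x * g⁻¹ ∈ (Q : Subgroup G) ↔ x ∈ ((g⁻¹ • Q : Sylow p G) : Subgroup G)
  rw [Sylow.coe_subgroup_smul, Coprime.mem_conj_smul, inv_inv]

variable {G : Type u} [Group G] [Finite G] (N : Subgroup G) [N.Normal]

/-- The image of a Sylow subgroup. -/
noncomputable def imgSylow (Q : Sylow p G) : Sylow p (G ⧸ N) :=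
  Q.mapSurjective (QuotientGroup.mk'_surjective N)

theorem coe_imgSylow (Q : Sylow p G) :
    ((imgSylow N Q : Sylow p (G ⧸ N)) : Subgroup (G ⧸ N)) =
      (Q : Subgroup G).map (QuotientGroup.mk' N) :=
  Sylow.coe_mapSurjective _ _

theorem mk_mem_imgSylow {Q : Sylow p G} {x : G} (hx : x ∈ Q) : (x : G ⧸ N) ∈ imgSylow N Q := by
  show (x : G ⧸ N) ∈ ((imgSylow N Q : Sylow p (G ⧸ N)) : Subgroup (G ⧸ N))
  rw [coe_imgSylow]
  exact mem_map_of_mem _ hx

theorem centCard_sylow (P Q : Sylow p G) :
    Nat.card ↥(N ⊓ centralizer ((P : Subgroup G) : Set G)) =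
      Nat.card ↥(N ⊓ centralizer ((Q : Subgroup G) : Set G)) := by
  obtain ⟨g, rfl⟩ := MulAction.exists_smul_eq G P Q
  refine (Coprime.card_conj_smul g _).symm.trans (Nat.card_congr (Equiv.setCongr ?_))
  ext x
  simp only [SetLike.mem_coe, Coprime.mem_conj_smul, Subgroup.mem_inf, mem_centralizer_iff,
    Sylow.coe_subgroup_smul]
  refine and_congr ⟨fun h => ?_, fun h => ?_⟩ ⟨fun h y hy => ?_, fun h y hy => ?_⟩
  · simpa [mul_assoc] using (inferInstance : N.Normal).conj_mem _ h g
  · exact (inferInstance : N.Normal).conj_mem' _ h g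
  · have := congrArg (fun z => g * z * g⁻¹) (h _ hy)
    simpa [mul_assoc] using this
  · have := congrArg (fun z => g⁻¹ * z * g) (h (g * y * g⁻¹) (by simpa [mul_assoc] using hy))
    simpa [mul_assoc] using this

theorem lam_mul (hcop : (Nat.card N).Coprime p) (P : Sylow p G) {x : G}
    (hx : IsPGroup p ↥(zpowers x)) :
    lam p x * Nat.card ↥(N ⊓ centralizer ((P : Subgroup G) : Set G)) =
      lam p (x : G ⧸ N) * fixCard N (zpowers x) := by
  classical
  letI := Fintype.ofFinite {Q : Sylow p (G ⧸ N) // (x : G ⧸ N) ∈ Q}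
  let φ : {Q : Sylow p G // x ∈ Q} → {Q : Sylow p (G ⧸ N) // (x : G ⧸ N) ∈ Q} :=
    fun Q => ⟨imgSylow N Q.1, mk_mem_imgSylow N Q.2⟩
  have hG : (Nat.card (G ⧸ N)).factorization p = (Nat.card G).factorization p := by
    rw [N.card_eq_card_quotient_mul_card_subgroup,
      Nat.factorization_mul Nat.card_pos.ne' Nat.card_pos.ne', Finsupp.add_apply,
      Nat.factorization_eq_zero_of_not_dvd fun hd =>
        (Fact.out : p.Prime).coprime_iff_not_dvd.1 hcop.symm hd, add_zero]
  have hfib : ∀ y, Nat.card {Q // φ Q = y} *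
      Nat.card ↥(N ⊓ centralizer ((P : Subgroup G) : Set G)) = fixCard N (zpowers x) := by
    intro y
    obtain ⟨⟨yQ, hyQ⟩⟩ : Nonempty {Q : Sylow p (G ⧸ N) // (x : G ⧸ N) ∈ Q} := ⟨y⟩
    have hle : (zpowers x).map (QuotientGroup.mk' N) ≤ (y.1 : Subgroup (G ⧸ N)) := by
      rw [MonoidHom.map_zpowers, zpowers_le]
      exact y.2
    obtain ⟨R⟩ := exists_lift hx hcop y.1.2 hle
    have hcard : ∀ T : Lifts N p (zpowers x) (y.1 : Subgroup (G ⧸ N)),
        Nat.card T.1 = p ^ (Nat.card G).factorization p := by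
      intro T
      have h1 := WielandtFixed.card_map_mul_card_inf_ker (QuotientGroup.mk' N) T.1
      rw [QuotientGroup.ker_mk', inf_eq_bot_of_pgroup T.2.1 hcop, Subgroup.card_bot, one_mul,
        T.2.2.2, y.1.card_eq_multiplicity, hG] at h1
      exact h1.symm
    let e : {Q // φ Q = y} ≃ Lifts N p (zpowers x) (y.1 : Subgroup (G ⧸ N)) :=
      { toFun := fun Q => ⟨(Q.1.1 : Subgroup G), Q.1.1.2, zpowers_le.2 Q.1.2, by
          rw [← coe_imgSylow]
          exact congrArg (fun z => ((z.1 : Sylow p (G ⧸ N)) : Subgroup (G ⧸ N))) Q.2⟩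
        invFun := fun T => ⟨⟨(Sylow.ofCard T.1 (hcard T) : Sylow p G), by
            show x ∈ ((Sylow.ofCard T.1 (hcard T) : Sylow p G) : Subgroup G)
            rw [Sylow.coe_ofCard]
            exact T.2.2.1 (mem_zpowers x)⟩, Subtype.ext (Sylow.ext (by
              rw [coe_imgSylow, Sylow.coe_ofCard]; exact T.2.2.2))⟩
        left_inv := fun Q => Subtype.ext (Subtype.ext (Sylow.ext
          (Sylow.coe_ofCard (p := p) (Q.1.1 : Subgroup G) Q.1.1.card_eq_multiplicity)))
        right_inv := fun T => Subtype.ext (Sylow.coe_ofCard (p := p) T.1 (hcard T)) }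
    rw [Nat.card_congr e, centCard_sylow N P (Sylow.ofCard R.1 (hcard R)), Sylow.coe_ofCard,
      card_lifts hcop R]
    rfl
  rw [lam, lam, ← Nat.card_congr (Equiv.sigmaFiberEquiv φ), Nat.card_sigma, Finset.sum_mul,
    Finset.sum_congr rfl fun y _ => hfib y, Finset.sum_const, Finset.card_univ, smul_eq_mul,
    ← Nat.card_eq_fintype_card]

theorem imgSylow_bijective (hN : IsPGroup p N) :
    Function.Bijective (imgSylow (p := p) N) := by
  refine ⟨fun Q R h => Sylow.ext ?_, Sylow.mapSurjective_surjective (QuotientGroup.mk'_surjective N) p⟩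
  have h1 := congrArg (fun S : Sylow p (G ⧸ N) =>
    ((S : Subgroup (G ⧸ N)).comap (QuotientGroup.mk' N))) h
  simp only [coe_imgSylow, Subgroup.comap_map_eq, QuotientGroup.ker_mk'] at h1
  rwa [sup_eq_left.2 (hN.le_sylow_of_normal Q), sup_eq_left.2 (hN.le_sylow_of_normal R)] at h1

theorem lam_mk (hN : IsPGroup p N) (x : G) : lam p (x : G ⧸ N) = lam p x := by
  symm
  refine Nat.card_congr (Equiv.subtypeEquiv (Equiv.ofBijective _ (imgSylow_bijective N hN))
    fun Q => ⟨mk_mem_imgSylow N, fun h => ?_⟩)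
  have h' : (x : G ⧸ N) ∈ (Q : Subgroup G).map (QuotientGroup.mk' N) := by
    rw [← coe_imgSylow]; exact h
  exact (mem_map_mk_iff (hN.le_sylow_of_normal Q) x).1 h'

/-- **The product bound.** -/
theorem prod_lam_le : ∀ (n : ℕ) (G : Type u) [Group G] [Finite G] (M : Fin (n + 1) → Subgroup G),
    M 0 = ⊥ → M (Fin.last n) = ⊤ → Monotone M → (∀ i, (M i).Normal) →
    (∀ i : Fin n, (∃ m : ℕ, (M i.castSucc).relIndex (M i.succ) = p ^ m) ∨
      ((M i.castSucc).relIndex (M i.succ)).Coprime p) →
    ∀ P : Sylow p G,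
      (∏ᶠ x : (P : Subgroup G), lam p (x : G)) ^ p ≤
        Nat.card (Sylow p G) ^ Nat.card (P : Subgroup G) := by
  intro n
  induction n with
  | zero =>
    intro G _ _ M h0 hlast _ _ _ P
    have : Subsingleton G := Subgroup.subsingleton_iff.1
      (subsingleton_of_bot_eq_top (h0.symm.trans hlast))
    have hP : ∀ Q : Sylow p G, Q = P := fun Q => Sylow.ext (Subsingleton.elim _ _)
    have h1 : Nat.card (Sylow p G) = 1 :=
      Nat.card_eq_one_iff_unique.2 ⟨⟨fun a b => (hP a).trans (hP b).symm⟩, ⟨P⟩⟩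
    have h2 : ∀ x : (P : Subgroup G), lam p (x : G) = 1 := fun x => by
      rw [Subsingleton.elim (x : G) 1, lam_one, h1]
    simp [h1, h2]
  | succ n ih =>
    intro G _ _ M h0 hlast hmono hn hfac P
    classical
    set N := M 1
    have hNn : N.Normal := hn 1
    have hNM : ∀ i : Fin (n + 1), N ≤ M i.succ := fun i => hmono (by
      rw [← Fin.succ_zero_eq_one]
      exact Fin.succ_le_succ_iff.2 (Fin.zero_le i))
    set f := QuotientGroup.mk' N with hf
    set M' : Fin (n + 1) → Subgroup (G ⧸ N) := fun i => (M i.succ).map f with hM'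
    have hrel : ∀ i : Fin n, (M' i.castSucc).relIndex (M' i.succ) =
        (M i.succ.castSucc).relIndex (M i.succ.succ) := fun i => by
      rw [hM', Subgroup.relIndex_map_map, hf, QuotientGroup.ker_mk',
        sup_eq_left.2 (hNM _), sup_eq_left.2 (hNM _), Fin.succ_castSucc]
    have key := ih (G ⧸ N) M'
      (by rw [hM']; simp only [Fin.succ_zero_eq_one]; exact QuotientGroup.map_mk'_self N)
      (by
        rw [hM']
        simp only [Fin.succ_last, hlast]
        exact Subgroup.map_top_of_surjective _ (QuotientGroup.mk'_surjective N))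
      (fun a b h => map_mono (hmono (Fin.succ_le_succ_iff.2 h)))
      (fun i => (hn _).map f (QuotientGroup.mk'_surjective N))
      (fun i => by rw [hrel]; exact hfac i.succ) (imgSylow N P)
    have h00 : (M (0 : Fin (n + 1)).castSucc).relIndex (M (0 : Fin (n + 1)).succ) = Nat.card N := by
      rw [Fin.castSucc_zero, h0, Fin.succ_zero_eq_one, Subgroup.relIndex_bot_left]
    letI : Fintype (P : Subgroup G) := Fintype.ofFinite _
    letI : Fintype ((imgSylow N P : Sylow p (G ⧸ N)) : Subgroup (G ⧸ N)) := Fintype.ofFinite _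
    rw [finprod_eq_prod_of_fintype] at key ⊢
    let π : ↥(P : Subgroup G) → ↥((imgSylow N P : Sylow p (G ⧸ N)) : Subgroup (G ⧸ N)) :=
      fun x => ⟨(x : G ⧸ N), mk_mem_imgSylow N x.2⟩
    have hπ : Function.Surjective π := by
      rintro ⟨y, hy⟩
      rw [coe_imgSylow] at hy
      obtain ⟨x, hx, rfl⟩ := hy
      exact ⟨⟨x, hx⟩, rfl⟩
    have hp : p.Prime := Fact.out
    by_cases hc : (Nat.card N).Coprime p
    · have hinj : Function.Injective π := fun a b h => by
        have h1 : (a : G)⁻¹ * b ∈ (P : Subgroup G) ⊓ N :=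
          mem_inf.2 ⟨mul_mem (inv_mem a.2) b.2, QuotientGroup.eq.1 (congrArg Subtype.val h)⟩
        rw [inf_eq_bot_of_pgroup P.2 hc, Subgroup.mem_bot, inv_mul_eq_one] at h1
        exact Subtype.ext h1
      have hPc : Nat.card ((imgSylow N P : Sylow p (G ⧸ N)) : Subgroup (G ⧸ N)) =
          Nat.card (P : Subgroup G) := (Nat.card_eq_of_bijective π ⟨hinj, hπ⟩).symm
      rw [hPc, ← Function.Bijective.prod_comp ⟨hinj, hπ⟩
        (fun y => lam p (y : G ⧸ N))] at key
      set c := Nat.card ↥(N ⊓ centralizer ((P : Subgroup G) : Set G)) with hcdef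
      have hz : ∀ x : (P : Subgroup G), IsPGroup p ↥(zpowers (x : G)) := fun x =>
        P.2.to_le (zpowers_le.2 x.2)
      have hn' : Nat.card (Sylow p G) * c = Nat.card (Sylow p (G ⧸ N)) * Nat.card N := by
        have h := lam_mul N hc P (x := 1) (P.2.to_le (zpowers_le.2 (one_mem _)))
        have h1 : fixCard N (zpowers (1 : G)) = Nat.card N := by
          rw [fixCard, zpowers_one_eq_bot]
          exact Nat.card_congr (Equiv.setCongr (by ext y; simp [mem_centralizer_iff]))
        rwa [lam_one, QuotientGroup.mk_one, lam_one, h1] at h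
      have hb := bound_of_coprime N (P : Subgroup G) Subgroup.le_normalizer_of_normal P.2 hc
      rw [Bound, finprod_eq_prod_of_fintype] at hb
      have hprod : (∏ x : (P : Subgroup G), lam p (x : G)) * c ^ Nat.card (P : Subgroup G) =
          (∏ x : (P : Subgroup G), lam p ((x : G) : G ⧸ N)) *
            ∏ x : (P : Subgroup G), fixCard N (zpowers (x : G)) := by
        rw [Nat.card_eq_fintype_card, ← Finset.card_univ, ← Finset.prod_const,
          ← Finset.prod_mul_distrib, ← Finset.prod_mul_distrib]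
        exact Finset.prod_congr rfl fun x _ => lam_mul N hc P (hz x)
      have hc0 : 0 < c := Nat.card_pos
      refine Nat.le_of_mul_le_mul_right ?_ (pow_pos hc0 (p * Nat.card (P : Subgroup G)))
      calc (∏ x : (P : Subgroup G), lam p (x : G)) ^ p * c ^ (p * Nat.card (P : Subgroup G))
          = ((∏ x : (P : Subgroup G), lam p (x : G)) * c ^ Nat.card (P : Subgroup G)) ^ p := by
            rw [mul_pow, ← pow_mul, mul_comm (Nat.card (P : Subgroup G)) p]
        _ = (∏ x : (P : Subgroup G), lam p ((x : G) : G ⧸ N)) ^ p *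
            (∏ x : (P : Subgroup G), fixCard N (zpowers (x : G))) ^ p := by rw [hprod, mul_pow]
        _ ≤ Nat.card (Sylow p (G ⧸ N)) ^ Nat.card (P : Subgroup G) *
            (Nat.card N ^ Nat.card (P : Subgroup G) *
              fixCard N (P : Subgroup G) ^ ((p - 1) * Nat.card (P : Subgroup G))) :=
            Nat.mul_le_mul key hb
        _ = (Nat.card (Sylow p G) * c) ^ Nat.card (P : Subgroup G) *
            c ^ ((p - 1) * Nat.card (P : Subgroup G)) := by
            rw [hn', hcdef, mul_pow]; unfold fixCard; ring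
        _ = _ := by
            rw [mul_pow, mul_assoc, ← pow_add]
            congr 2
            obtain ⟨q, rfl⟩ : ∃ q, p = q + 1 := ⟨p - 1, by have := hp.two_le; omega⟩
            simp; ring
    · obtain ⟨m, hm⟩ : ∃ m, Nat.card N = p ^ m := by
        rcases hfac 0 with h | h
        · rwa [h00] at h
        · rw [h00] at h; exact absurd h hc
      have hN : IsPGroup p N := IsPGroup.of_card hm
      have hNP : N ≤ (P : Subgroup G) := hN.le_sylow_of_normal P
      have hcn : Nat.card (Sylow p (G ⧸ N)) = Nat.card (Sylow p G) :=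
        (Nat.card_eq_of_bijective _ (imgSylow_bijective N hN)).symm
      have hfib : ∀ y, (Finset.univ.filter fun x => π x = y).card = Nat.card N := by
        intro y
        obtain ⟨a, rfl⟩ := hπ y
        rw [← Fintype.card_subtype, ← Nat.card_eq_fintype_card]
        exact Nat.card_congr
          { toFun := fun x => ⟨(a : G)⁻¹ * x.1, QuotientGroup.eq.1 (congrArg Subtype.val x.2).symm⟩
            invFun := fun z => ⟨⟨a * z.1, mul_mem a.2 (hNP z.2)⟩, Subtype.ext (by
              show (((a : G) * z.1 : G) : G ⧸ N) = (a : G)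
              rw [QuotientGroup.mk_mul, (QuotientGroup.eq_one_iff _).2 z.2, mul_one])⟩
            left_inv := fun x => Subtype.ext (Subtype.ext (mul_inv_cancel_left _ _))
            right_inv := fun z => Subtype.ext (inv_mul_cancel_left _ _) }
      have hPc : Nat.card (P : Subgroup G) =
          Nat.card ((imgSylow N P : Sylow p (G ⧸ N)) : Subgroup (G ⧸ N)) * Nat.card N := by
        rw [coe_imgSylow, card_map_mk hNP]
      have hprod : ∏ x : (P : Subgroup G), lam p (x : G) =
          (∏ y : ((imgSylow N P : Sylow p (G ⧸ N)) : Subgroup (G ⧸ N)), lam p (y : G ⧸ N)) ^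
            Nat.card N := by
        rw [← Finset.prod_pow, ← Finset.prod_fiberwise Finset.univ π]
        refine Finset.prod_congr rfl fun y _ => ?_
        rw [← hfib y]
        exact Finset.prod_eq_pow_card fun x hx => by
          rw [← (Finset.mem_filter.1 hx).2]
          exact (lam_mk N hN (x : G)).symm
      rw [hprod, hPc, ← hcn, ← pow_mul, mul_comm (Nat.card N) p, pow_mul, pow_mul]
      exact Nat.pow_le_pow_left key _

theorem card_pElements (P : Sylow p G) :
    (Nat.card {g : G // ∃ k : ℕ, orderOf g = p ^ k} : ℝ) =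
      Nat.card (Sylow p G) * ∑ᶠ x : (P : Subgroup G), (1 / (lam p (x : G) : ℝ)) := by
  classical
  letI := Fintype.ofFinite G
  letI := Fintype.ofFinite (Sylow p G)
  have hinner : ∀ Q : Sylow p G,
      ∑ x ∈ Finset.univ.filter (fun x => x ∈ Q), (1 / (lam p x : ℝ)) =
        ∑ x ∈ Finset.univ.filter (fun x => x ∈ P), (1 / (lam p x : ℝ)) := by
    intro Q
    obtain ⟨g, rfl⟩ := MulAction.exists_smul_eq G P Q
    symm
    refine Finset.sum_equiv (MulAut.conj g).toEquiv (fun x => ?_) (fun x _ => ?_)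
    · simp only [Finset.mem_filter, Finset.mem_univ, true_and]
      show x ∈ (P : Subgroup G) ↔ (MulAut.conj g) x ∈ ((g • P : Sylow p G) : Subgroup G)
      rw [Sylow.coe_subgroup_smul, Coprime.mem_conj_smul]
      simp [mul_assoc]
    · show 1 / (lam p x : ℝ) = 1 / (lam p (g * x * g⁻¹) : ℝ)
      rw [lam_conj]
  have hsum : ∑ᶠ x : (P : Subgroup G), (1 / (lam p (x : G) : ℝ)) =
      ∑ x ∈ Finset.univ.filter (fun x => x ∈ P), (1 / (lam p x : ℝ)) := by
    rw [finsum_eq_sum_of_fintype]
    exact (Finset.sum_subtype (Finset.univ.filter fun x => x ∈ P)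
      (p := fun x => x ∈ (P : Subgroup G)) (fun x => by simp only [Finset.mem_filter, Finset.mem_univ, true_and]; rfl) (fun x => 1 / (lam p x : ℝ))).symm
  have hcount : ∀ x : G,
      ((Finset.univ.filter fun Q : Sylow p G => x ∈ Q).card : ℝ) * (1 / (lam p x : ℝ)) =
        if ∃ k : ℕ, orderOf x = p ^ k then 1 else 0 := by
    intro x
    rw [show (Finset.univ.filter fun Q : Sylow p G => x ∈ Q).card = lam p x by
      rw [lam, Nat.card_eq_fintype_card, Fintype.card_subtype]]
    split
    · next h =>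
      obtain ⟨k, hk⟩ := h
      obtain ⟨Q, hQ⟩ := (IsPGroup.of_card (G := zpowers x) (n := k)
        (by rw [Nat.card_zpowers, hk])).exists_le_sylow
      rw [mul_one_div, div_self]
      exact_mod_cast (lam_pos (hQ (mem_zpowers x))).ne'
    · next h =>
      have h0 : lam p x = 0 := by
        rw [lam, Nat.card_eq_zero]
        refine Or.inl ⟨fun Q => h ?_⟩
        obtain ⟨k, hk⟩ := IsPGroup.iff_orderOf.1 Q.1.2 ⟨x, Q.2⟩
        exact ⟨k, by rw [← hk, Subgroup.orderOf_mk]⟩
      simp [h0]
  calc (Nat.card {g : G // ∃ k : ℕ, orderOf g = p ^ k} : ℝ)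
      = ∑ x : G, ∑ Q ∈ Finset.univ.filter (fun Q : Sylow p G => x ∈ Q), (1 / (lam p x : ℝ)) := by
        simp only [Finset.sum_const, nsmul_eq_mul, hcount, Finset.sum_boole,
          Nat.card_eq_fintype_card, Fintype.card_subtype]
    _ = ∑ Q : Sylow p G, ∑ x ∈ Finset.univ.filter (fun x => x ∈ Q), (1 / (lam p x : ℝ)) :=
        Finset.sum_comm' (by simp)
    _ = _ := by
        rw [Finset.sum_congr rfl fun Q _ => hinner Q, Finset.sum_const, Finset.card_univ,
          nsmul_eq_mul, hsum, Nat.card_eq_fintype_card]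

/-- **Gheri's bound.** -/
theorem pElements_bound (hG : Cfsg.IsPSolvable p G) (P : Sylow p G) :
    Nat.card (P : Subgroup G) ^ p * Nat.card (Sylow p G) ^ (p - 1) ≤
      Nat.card {g : G // ∃ k : ℕ, orderOf g = p ^ k} ^ p := by
  classical
  obtain ⟨n, M, h0, hlast, hmono, hn, hfac⟩ := hG
  have key := prod_lam_le n G M h0 hlast hmono hn hfac P
  letI : Fintype (P : Subgroup G) := Fintype.ofFinite _
  rw [finprod_eq_prod_of_fintype] at key
  have hu := card_pElements P
  rw [finsum_eq_sum_of_fintype] at hu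
  have hp : p.Prime := Fact.out
  set s : ℕ := Nat.card (Sylow p G) with hs
  set u : ℕ := Nat.card {g : G // ∃ k : ℕ, orderOf g = p ^ k}
  set m : ℕ := Nat.card (P : Subgroup G) with hm
  have hm0 : 0 < m := Nat.card_pos
  have hs0 : (0 : ℝ) < s := by exact_mod_cast (Nat.card_pos (α := Sylow p G))
  have hmc : (∑ _x : (P : Subgroup G), (1 : ℝ)) = m := by
    simp [hm, Nat.card_eq_fintype_card]
  have ham := Real.geom_mean_le_arith_mean Finset.univ (fun _ : (P : Subgroup G) => (1 : ℝ))
    (fun x => 1 / (lam p (x : G) : ℝ)) (fun _ _ => zero_le_one)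
    (by rw [hmc]; exact_mod_cast hm0) (fun _ _ => by positivity)
  simp only [Real.rpow_one, one_mul, hmc] at ham
  rw [show ∑ x : (P : Subgroup G), 1 / (lam p (x : G) : ℝ) = u / s by
    rw [hu]; field_simp] at ham
  set PR : ℝ := ∏ x : (P : Subgroup G), (lam p (x : G) : ℝ) with hPR
  have hPR0 : 0 < PR := Finset.prod_pos fun x _ => by exact_mod_cast lam_pos x.2
  have hprod : ∏ x : (P : Subgroup G), 1 / (lam p (x : G) : ℝ) = PR⁻¹ := by
    simp [hPR, Finset.prod_inv_distrib]
  rw [hprod] at ham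
  have h1 : PR⁻¹ ≤ ((u : ℝ) / s / m) ^ m := by
    have h := pow_le_pow_left₀ (Real.rpow_nonneg (inv_nonneg.2 hPR0.le) _) ham m
    rwa [Real.rpow_inv_natCast_pow (inv_nonneg.2 hPR0.le) hm0.ne'] at h
  have h2 : PR ^ p ≤ (s : ℝ) ^ m := by
    rw [hPR, ← Nat.cast_prod]
    exact_mod_cast key
  have h3 : ((1 : ℝ) / s) ^ m ≤ (((u : ℝ) / s / m) ^ p) ^ m := by
    rw [← pow_mul, mul_comm p m, pow_mul, one_div, inv_pow]
    refine le_trans ?_ (pow_le_pow_left₀ (inv_nonneg.2 hPR0.le) h1 p)
    rw [inv_pow]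
    exact inv_anti₀ (pow_pos hPR0 p) h2
  have h4 : (1 : ℝ) / s ≤ ((u : ℝ) / s / m) ^ p :=
    le_of_pow_le_pow_left₀ hm0.ne' (by positivity) h3
  obtain ⟨q, rfl⟩ : ∃ q, p = q + 1 := ⟨p - 1, by have := hp.two_le; omega⟩
  have h5 : (m : ℝ) ^ (q + 1) * (s : ℝ) ^ q ≤ (u : ℝ) ^ (q + 1) := by
    have hm' : (0 : ℝ) < m := by exact_mod_cast hm0
    rw [div_div, div_pow, div_le_div_iff₀ hs0 (by positivity), one_mul, mul_pow, pow_succ' (s : ℝ)] at h4
    refine le_of_mul_le_mul_right ?_ hs0
    calc (m : ℝ) ^ (q + 1) * (s : ℝ) ^ q * s = s * (s : ℝ) ^ q * (m : ℝ) ^ (q + 1) := by ring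
      _ ≤ _ := h4
  simpa using (by exact_mod_cast h5 : m ^ (q + 1) * s ^ q ≤ u ^ (q + 1))

end Cfsg.Agent.Gheri
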